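import Groth.Agent.CInt.K138.TransFlat

/-!
# Normal flatness along `K + x` and a local condition imply normal flatness along `K`

The one-step backward argument.
-/

set_option autoImplicit false
universe u v w

namespace K138.Back

open RingTheory.Sequence K138 K138.Gr K138.Basic K138.Step K138.TransFlat
open scoped Pointwise TensorProduct

variable {A : Type u} [CommRing A] {M : Type v} [AddCommGroup M] [Module A M]

/-- graded pieces of `M / R^h M` in degrees `< h`. -/
theorem NF_quot_pow (R : Ideal A) (h : ℕ)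
    (H : ∀ j < h, Module.Flat (A ⧸ R) (Gr R M j)) :
    NF R (M ⧸ (R ^ h • (⊤ : Submodule A M))) := by
  set q : M →ₗ[A] (M ⧸ (R ^ h • (⊤ : Submodule A M))) := (R ^ h • (⊤ : Submodule A M)).mkQ with hq
  have hqs : Function.Surjective q := Submodule.mkQ_surjective _
  intro j
  by_cases hj : j < h
  · have hinj : Function.Injective (grMap R q j) := by
      rw [injective_iff_map_eq_zero]
      intro z hz
      obtain ⟨y, hy, rfl⟩ := mk_surjective R j z
      rw [grMap_mk, mk_eq_zero_iff] at hz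
      obtain ⟨w, hw, hwy⟩ := exists_of_surjective R hqs _ _ hz
      rw [mk_eq_zero_iff]
      have h1 : y - w ∈ R ^ h • (⊤ : Submodule A M) := by
        rw [← Submodule.Quotient.mk_eq_zero, Submodule.Quotient.mk_sub, sub_eq_zero]
        exact hwy.symm
      have h2 := Groth.Agent.Ega4dB.NormFlat.pow_anti (M := M) R (Nat.succ_le_of_lt hj) h1
      have h3 := add_mem h2 hw
      simpa using h3
    have e := LinearEquiv.ofBijective (grMap R q j) ⟨hinj, grMap_surjective R hqs j⟩
    have := H j hj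
    exact Module.Flat.of_linearEquiv
      (e.extendScalarsOfSurjective (Ideal.Quotient.mk_surjective (I := R))).symm
  · have : Subsingleton (Gr R (M ⧸ (R ^ h • (⊤ : Submodule A M))) j) := by
      refine subsingleton_of_forall_eq 0 fun z => ?_
      obtain ⟨y, hy, rfl⟩ := mk_surjective R j z
      obtain ⟨w, hw, rfl⟩ := exists_of_surjective R hqs _ _ hy
      rw [mk_eq_zero_iff]
      have h2 := Groth.Agent.Ega4dB.NormFlat.pow_anti (M := M) R (not_lt.mp hj) hw
      have h3 : q w = 0 := by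
        rw [hq, Submodule.mkQ_apply, Submodule.Quotient.mk_eq_zero]
        exact h2
      rw [h3]
      exact zero_mem _
    infer_instance

/-- `x` is regular on `M / R^h M`. -/
theorem mem_of_smul_mem_lt (R : Ideal A) {x : A} (hx : IsSMulRegular (A ⧸ R) x) (h : ℕ)
    (H : ∀ j < h, Module.Flat (A ⧸ R) (Gr R M j)) (y : M)
    (hy : x • y ∈ R ^ h • (⊤ : Submodule A M)) : y ∈ R ^ h • (⊤ : Submodule A M) := by
  have h1 := NF_quot_pow R h H
  have hreg : ∀ n, IsSMulRegular (Gr R (M ⧸ (R ^ h • (⊤ : Submodule A M))) n) x := fun n => by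
    have := h1 n
    exact regular_of_flat hx _
  have h2 : x • (Submodule.Quotient.mk y : M ⧸ (R ^ h • (⊤ : Submodule A M))) ∈
      R ^ h • (⊤ : Submodule A (M ⧸ (R ^ h • (⊤ : Submodule A M)))) := by
    rw [← Submodule.Quotient.mk_smul, (Submodule.Quotient.mk_eq_zero _).mpr hy]
    exact zero_mem _
  have h3 := mem_of_smul_mem R hreg h _ h2
  obtain ⟨w, hw, hwy⟩ := exists_of_surjective R
    (Submodule.mkQ_surjective (R ^ h • (⊤ : Submodule A M))) _ _ h3
  have h4 : y - w ∈ R ^ h • (⊤ : Submodule A M) := by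
    rw [← Submodule.Quotient.mk_eq_zero, Submodule.Quotient.mk_sub, sub_eq_zero]
    exact hwy.symm
  simpa using add_mem h4 hw

/-- `R^h M ∩ R₁^(h+1) M = R₁ R^h M`. -/
theorem inter_le (R : Ideal A) {x : A} (hx : IsSMulRegular (A ⧸ R) x) (h : ℕ)
    (H : ∀ j < h, Module.Flat (A ⧸ R) (Gr R M j)) (z : M)
    (hz : z ∈ R ^ h • (⊤ : Submodule A M))
    (hz' : z ∈ (R ⊔ Ideal.span {x}) ^ (h + 1) • (⊤ : Submodule A M)) :
    z ∈ (R ⊔ Ideal.span {x}) • (R ^ h • (⊤ : Submodule A M)) := by
  obtain ⟨y, hy, rfl⟩ := Groth.Agent.Ega4dB.NormFlat.exists_decomp R x (h + 1) z hz'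
  have hsum : ∑ r ∈ Finset.range (h + 1 + 1), x ^ r • y r =
      y 0 + x • (∑ r ∈ Finset.range (h + 1), x ^ r • y (r + 1)) := by
    rw [Finset.sum_range_succ', pow_zero, one_smul, add_comm, Finset.smul_sum]
    congr 1
    refine Finset.sum_congr rfl fun r _ => ?_
    rw [smul_smul, pow_succ']
  rw [hsum] at hz ⊢
  have h0 : y 0 ∈ R ^ (h + 1) • (⊤ : Submodule A M) := by simpa using hy 0 (Nat.zero_le _)
  have h1 : x • (∑ r ∈ Finset.range (h + 1), x ^ r • y (r + 1)) ∈ R ^ h • (⊤ : Submodule A M) := by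
    have := sub_mem hz (Groth.Agent.Ega4dB.NormFlat.pow_anti (M := M) R (Nat.le_succ h) h0)
    simpa using this
  have h2 := mem_of_smul_mem_lt R hx h H _ h1
  refine add_mem ?_ ?_
  · rw [pow_succ', Submodule.mul_smul] at h0
    exact Submodule.smul_mono_left le_sup_left h0
  · exact Submodule.smul_mem_smul
      ((le_sup_right : Ideal.span {x} ≤ R ⊔ Ideal.span {x}) (Ideal.mem_span_singleton_self x)) h2

/-- `R^h M / R₁ R^h M` is flat over `A / R₁`. -/
theorem flat_N (R : Ideal A) {x : A} (hx : IsSMulRegular (A ⧸ R) x) (h : ℕ)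
    (H : ∀ j < h, Module.Flat (A ⧸ R) (Gr R M j))
    (hNF : NF (R ⊔ Ideal.span {x}) M) :
    Module.Flat (A ⧸ (R ⊔ Ideal.span {x})) (↥(R ^ h • (⊤ : Submodule A M)) ⧸
      ((R ⊔ Ideal.span {x}) • (⊤ : Submodule A ↥(R ^ h • (⊤ : Submodule A M))))) := by
  set L := R ⊔ Ideal.span {x} with hL
  set q : M →ₗ[A] (M ⧸ (R ^ h • (⊤ : Submodule A M))) := (R ^ h • (⊤ : Submodule A M)).mkQ with hq
  have hqs : Function.Surjective q := Submodule.mkQ_surjective _
  have hM' : NF L (M ⧸ (R ^ h • (⊤ : Submodule A M))) := step_forward hx (NF_quot_pow R h H)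
  have hle : R ^ h • (⊤ : Submodule A M) ≤ L ^ h • (⊤ : Submodule A M) :=
    Submodule.smul_mono_left (Ideal.pow_right_mono le_sup_left h)
  let f : (↥(R ^ h • (⊤ : Submodule A M)) ⧸
      (L • (⊤ : Submodule A ↥(R ^ h • (⊤ : Submodule A M))))) →ₗ[A] Gr L M h :=
    Submodule.mapQ _ _ (Submodule.inclusion hle) (by
      rw [← Submodule.map_le_iff_le_comap, Submodule.map_smul'']
      exact Submodule.smul_mono le_rfl le_top)
  let g : Gr L M h →ₗ[A] Gr L (M ⧸ (R ^ h • (⊤ : Submodule A M))) h := grMap L q h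
  have hf : Function.Injective f := by
    rw [injective_iff_map_eq_zero]
    intro z hz
    obtain ⟨⟨y, hy⟩, rfl⟩ := Submodule.Quotient.mk_surjective _ z
    have hz' : Gr.mk L h y (hle hy) = 0 := hz
    rw [mk_eq_zero_iff] at hz'
    rw [Submodule.Quotient.mk_eq_zero, Submodule.mem_smul_top_iff]
    exact inter_le R hx h H y hy hz'
  have hg : Function.Surjective g := grMap_surjective L hqs h
  have hex : Function.Exact f g := by
    intro z
    obtain ⟨y, hy, rfl⟩ := mk_surjective L h z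
    constructor
    · intro h0
      have h0' : grMap L q h (Gr.mk L h y hy) = 0 := h0
      rw [grMap_mk, mk_eq_zero_iff] at h0'
      obtain ⟨w, hw, hwy⟩ := exists_of_surjective L hqs _ _ h0'
      have h1 : y - w ∈ R ^ h • (⊤ : Submodule A M) := by
        rw [← Submodule.Quotient.mk_eq_zero, Submodule.Quotient.mk_sub, sub_eq_zero]
        exact hwy.symm
      refine ⟨Submodule.Quotient.mk ⟨y - w, h1⟩, ?_⟩
      have h2 : f (Submodule.Quotient.mk ⟨y - w, h1⟩) = Gr.mk L h (y - w) (hle h1) := rfl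
      rw [h2, mk_eq_mk_iff]
      have h3 : y - w - y = -w := by abel
      rw [h3]
      exact neg_mem hw
    · rintro ⟨w, hw⟩
      obtain ⟨⟨w, hw'⟩, rfl⟩ := Submodule.Quotient.mk_surjective _ w
      rw [← hw]
      have h2 : f (Submodule.Quotient.mk ⟨w, hw'⟩) = Gr.mk L h w (hle hw') := rfl
      rw [h2]
      show grMap L q h _ = 0
      rw [grMap_mk, mk_eq_zero_iff]
      have h3 : q w = 0 := by
        rw [hq, Submodule.mkQ_apply, Submodule.Quotient.mk_eq_zero]
        exact hw'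
      rw [h3]
      exact zero_mem _
  have i1 := hNF h
  have i2 := hM' h
  exact Groth.Agent.Divis.FlatExt.flat_of_exact_left
    (f := f.extendScalarsOfSurjective (Ideal.Quotient.mk_surjective (I := L)))
    (g := g.extendScalarsOfSurjective (Ideal.Quotient.mk_surjective (I := L))) hf hex hg

/-- Elements of a flat `A/L`-module which are locally zero at the associated primes of `A/L`
are zero. -/
theorem eq_zero_of_assoc [IsNoetherianRing A] (L : Ideal A) (N : Type v) [AddCommGroup N]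
    [Module A N] [Module (A ⧸ L) N] [IsScalarTower A (A ⧸ L) N] [Module.Flat (A ⧸ L) N] (z : N)
    (hz : ∀ P ∈ associatedPrimes A (A ⧸ L), ∃ s : A, s ∉ P ∧ s • z = 0) : z = 0 := by
  let I : Ideal A := LinearMap.ker (LinearMap.toSpanSingleton A N z)
  have hI : ∀ a, a ∈ I ↔ a • z = 0 := fun a => by simp [I]
  have hfin : (associatedPrimes A (A ⧸ L)).Finite := associatedPrimes.finite A (A ⧸ L)
  have hnot : ¬ ((I : Set A) ⊆ ⋃ P ∈ associatedPrimes A (A ⧸ L), (P : Set A)) := by
    intro hsub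
    have := (Ideal.subset_union_prime_finite hfin (f := fun P => P) ⊥ ⊥
      (fun P hP _ _ => hP.1) ).mp hsub
    obtain ⟨P, hP, hle⟩ := this
    obtain ⟨s, hs, hsz⟩ := hz P hP
    exact hs (hle ((hI s).mpr hsz))
  rw [Set.not_subset] at hnot
  obtain ⟨a, ha, haP⟩ := hnot
  have h1 : IsSMulRegular (A ⧸ L) a := by
    rw [biUnion_associatedPrimes_eq_compl_regular, Set.mem_compl_iff, not_not] at haP
    exact haP
  have h3 := regular_of_flat h1 N
  exact h3.right_eq_zero_of_smul ((hI a).mp ha)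

/-- iterating the local condition. -/
theorem loc_pow (R L : Ideal A) {x : A} (h : ℕ)
    (hloc : ∀ g ∈ R ^ h • (⊤ : Submodule A M), x • g ∈ R ^ (h + 1) • (⊤ : Submodule A M) →
      ∀ P ∈ associatedPrimes A (A ⧸ L), ∃ s : A, s ∉ P ∧
        s • g ∈ R ^ (h + 1) • (⊤ : Submodule A M)) (s : ℕ) : ∀ g ∈ R ^ h • (⊤ : Submodule A M),
        x ^ s • g ∈ R ^ (h + 1) • (⊤ : Submodule A M) →
        ∀ P ∈ associatedPrimes A (A ⧸ L), ∃ t : A, t ∉ P ∧
          t • g ∈ R ^ (h + 1) • (⊤ : Submodule A M) := by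
  induction s with
  | zero =>
    intro g _ hg' P hP
    refine ⟨1, fun h1 => ?_, by simpa using hg'⟩
    have : P.IsPrime := hP.1
    exact this.ne_top ((Ideal.eq_top_iff_one P).mpr h1)
  | succ s ih =>
    intro g hg hg' P hP
    have : P.IsPrime := hP.1
    rw [pow_succ' x, mul_smul] at hg'
    obtain ⟨t, ht, ht'⟩ := hloc _ (Submodule.smul_mem _ _ hg) hg' P hP
    obtain ⟨t', ht1, ht2⟩ := ih (t • g) (Submodule.smul_mem _ _ hg) (by
      rw [smul_comm]; exact ht') P hP
    refine ⟨t' * t, fun hh => ?_, by rw [mul_smul]; exact ht2⟩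
    rcases this.mem_or_mem hh with h1 | h1
    · exact ht1 h1
    · exact ht h1

/-- A finite module whose `x`-power torsion is divisible by `x` is `x`-torsion free. -/
theorem regular_of_div [IsNoetherianRing A] (G : Type v) [AddCommGroup G] [Module A G]
    [Module.Finite A G] {x : A} (hrad : x ∈ (⊥ : Ideal A).jacobson)
    (hdiv : ∀ (s : ℕ) (z : G), x ^ s • z = 0 → ∃ w : G, z = x • w) : IsSMulRegular G x := by
  let T : Submodule A G := Submodule.torsion' A G (Submonoid.powers x)
  have hT : T = ⊥ := by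
    refine Submodule.eq_bot_of_le_smul_of_le_jacobson_bot (Ideal.span {x}) T
      (IsNoetherian.noetherian T) ?_ (by rwa [Ideal.span_singleton_le_iff_mem])
    intro z hz
    rw [Submodule.mem_torsion'_iff] at hz
    obtain ⟨⟨_, s, rfl⟩, hs⟩ := hz
    obtain ⟨w, rfl⟩ := hdiv s z hs
    rw [Submodule.ideal_span_singleton_smul]
    refine Submodule.smul_mem_pointwise_smul _ _ _ ?_
    show w ∈ Submodule.torsion' A G (Submonoid.powers x)
    rw [Submodule.mem_torsion'_iff]
    refine ⟨⟨x ^ (s + 1), s + 1, rfl⟩, ?_⟩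
    show x ^ (s + 1) • w = 0
    rw [pow_succ, mul_smul]
    exact hs
  rw [isSMulRegular_iff_right_eq_zero_of_smul]
  intro z hz
  have : z ∈ T := by
    show z ∈ Submodule.torsion' A G (Submonoid.powers x)
    rw [Submodule.mem_torsion'_iff]
    exact ⟨⟨x, 1, pow_one x⟩, hz⟩
  rw [hT] at this
  simpa using this

theorem gr_div (R L : Ideal A) {x : A} (hL : L = R ⊔ Ideal.span {x}) (h : ℕ) (g : M)
    (hg : g ∈ R ^ h • (⊤ : Submodule A M)) (hg' : g ∈ L • (R ^ h • (⊤ : Submodule A M))) :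
    ∃ w : Gr R M h, Gr.mk R h g hg = x • w := by
  subst hL
  rw [Submodule.sup_smul, Submodule.ideal_span_singleton_smul, Submodule.mem_sup] at hg'
  obtain ⟨a, ha, b, hb, rfl⟩ := hg'
  obtain ⟨c, hc, rfl⟩ := (Submodule.mem_smul_pointwise_iff_exists _ _ _).mp hb
  refine ⟨Gr.mk R h c hc, ?_⟩
  rw [smul_mk, mk_eq_mk_iff, pow_succ', Submodule.mul_smul]
  simpa using ha

/-- The one-step backward lemma: regularity. -/
theorem regular_gr [IsNoetherianRing A] [Module.Finite A M] (R : Ideal A) {x : A}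
    (hrad : x ∈ (⊥ : Ideal A).jacobson) (hx : IsSMulRegular (A ⧸ R) x)
    (hNF : NF (R ⊔ Ideal.span {x}) M) (h : ℕ)
    (IH : ∀ j < h, Module.Flat (A ⧸ R) (Gr R M j))
    (hloc : ∀ g ∈ R ^ h • (⊤ : Submodule A M), x • g ∈ R ^ (h + 1) • (⊤ : Submodule A M) →
      ∀ P ∈ associatedPrimes A (A ⧸ (R ⊔ Ideal.span {x})), ∃ s : A, s ∉ P ∧
        s • g ∈ R ^ (h + 1) • (⊤ : Submodule A M)) :
    IsSMulRegular (Gr R M h) x := by
  have hN := flat_N R hx h IH hNF
  refine regular_of_div (Gr R M h) hrad ?_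
  intro s z hz
  obtain ⟨g, hg, rfl⟩ := mk_surjective R h z
  rw [smul_mk, mk_eq_zero_iff] at hz
  refine gr_div R _ rfl h g hg ?_
  have hz' : (Submodule.Quotient.mk ⟨g, hg⟩ : ↥(R ^ h • (⊤ : Submodule A M)) ⧸
      ((R ⊔ Ideal.span {x}) • (⊤ : Submodule A ↥(R ^ h • (⊤ : Submodule A M))))) = 0 := by
    apply eq_zero_of_assoc (R ⊔ Ideal.span {x})
    intro P hP
    obtain ⟨t, ht, ht'⟩ := loc_pow R (R ⊔ Ideal.span {x}) h hloc s g hg hz P hP
    refine ⟨t, ht, ?_⟩
    rw [← Submodule.Quotient.mk_smul, Submodule.Quotient.mk_eq_zero,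
      Submodule.mem_smul_top_iff]
    rw [pow_succ', Submodule.mul_smul] at ht'
    exact Submodule.smul_mono_left le_sup_left ht'
  rw [Submodule.Quotient.mk_eq_zero, Submodule.mem_smul_top_iff] at hz'
  exact hz'

/-- The one-step backward lemma. -/
theorem step_backward [IsNoetherianRing A] [Module.Finite A M] (R : Ideal A) {x : A}
    (hrad : x ∈ (⊥ : Ideal A).jacobson) (hx : IsSMulRegular (A ⧸ R) x)
    (hNF : NF (R ⊔ Ideal.span {x}) M)
    (hloc : ∀ (h : ℕ), ∀ g ∈ R ^ h • (⊤ : Submodule A M), x • g ∈ R ^ (h + 1) • (⊤ : Submodule A M) →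
      ∀ P ∈ associatedPrimes A (A ⧸ (R ⊔ Ideal.span {x})), ∃ s : A, s ∉ P ∧
        s • g ∈ R ^ (h + 1) • (⊤ : Submodule A M)) : NF R M := by
  intro h
  induction h using Nat.strong_induction_on with
  | _ h IH =>
    have hN := flat_N R hx h IH hNF
    have hreg := regular_gr R hrad hx hNF h IH (hloc h)
    have hx' : IsWeaklyRegular (A ⧸ R) [Ideal.Quotient.mk R x] := by
      have h1 : IsWeaklyRegular (A ⧸ R) [x] := (isWeaklyRegular_singleton_iff _ _).mpr hx
      exact (isWeaklyRegular_map_algebraMap_iff (A ⧸ R) (A ⧸ R) [x]).mpr h1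
    have hGr : IsWeaklyRegular (Gr R M h) [Ideal.Quotient.mk R x] := by
      have h1 : IsWeaklyRegular (Gr R M h) [x] := (isWeaklyRegular_singleton_iff _ _).mpr hreg
      exact (isWeaklyRegular_map_algebraMap_iff (A ⧸ R) (Gr R M h) [x]).mpr h1
    have hfin : Module.Finite (A ⧸ R) (Gr R M h) := Module.Finite.of_restrictScalars_finite A _ _
    have hJ : Ideal.map (Ideal.Quotient.mk R) (R ⊔ Ideal.span {x}) =
        Ideal.ofList [Ideal.Quotient.mk R x] := by
      rw [Ideal.map_sup, Ideal.map_quotient_self, bot_sup_eq, Ideal.map_span, Set.image_singleton,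
        Ideal.ofList_singleton]
    rw [flat_iff_of_isWeaklyRegular (by
      intro r hr
      rw [List.mem_singleton] at hr
      rw [hr]
      exact mem_jacobson_quotient R hrad) hx']
    refine ⟨?_, hGr⟩
    rw [← hJ]
    rw [← flat_quot_iff (R := R) (J := R ⊔ Ideal.span {x}) le_sup_left (Gr R M h)]
    have hle : (R • (⊤ : Submodule A ↥(R ^ h • (⊤ : Submodule A M)))) ≤
        ((R ⊔ Ideal.span {x}) • (⊤ : Submodule A ↥(R ^ h • (⊤ : Submodule A M)))) :=
      Submodule.smul_mono_left le_sup_left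
    have e1 : (Gr R M h ⧸ ((R ⊔ Ideal.span {x}) • (⊤ : Submodule A (Gr R M h)))) ≃ₗ[A]
        (↥(R ^ h • (⊤ : Submodule A M)) ⧸
          ((R ⊔ Ideal.span {x}) • (⊤ : Submodule A ↥(R ^ h • (⊤ : Submodule A M))))) :=
      (Submodule.quotEquivOfEq _ _ (by
        rw [Submodule.map_smul'', Submodule.map_top, Submodule.range_mkQ])).trans
        (Submodule.quotientQuotientEquivQuotient _ _ hle)
    exact Module.Flat.of_linearEquiv
      (e1.extendScalarsOfSurjective (Ideal.Quotient.mk_surjective (I := R ⊔ Ideal.span {x})))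

end K138.Back
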