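import Groth.Agent.CInt.K138.Back
import Groth.Agent.CalgB.CM1
import Groth.Agent.Ega4dB.LocReg

/-!
# The backward direction for a sequence, and localization of graded pieces
-/

set_option autoImplicit false
universe u v w

namespace K138.Back2

open RingTheory.Sequence K138 K138.Gr K138.Basic K138.Step K138.TransFlat K138.Back
open scoped Pointwise TensorProduct

variable {A : Type u} [CommRing A]

/-- associated primes of `A / K` specialize to associated primes of `A / (K + (gs))`. -/
theorem exists_assoc_le [IsNoetherianRing A] (gs : List A) : ∀ (K : Ideal A)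
    (_ : ∀ g ∈ gs, g ∈ (⊥ : Ideal A).jacobson) (_ : IsWeaklyRegular (A ⧸ K) gs),
    ∀ P ∈ associatedPrimes A (A ⧸ K),
      ∃ P' ∈ associatedPrimes A (A ⧸ (K ⊔ Ideal.ofList gs)), P ≤ P' := by
  induction gs with
  | nil =>
    intro K _ _ P hP
    have : K ⊔ Ideal.ofList [] = K := by rw [Ideal.ofList_nil, sup_bot_eq]
    rw [this]
    exact ⟨P, hP, le_rfl⟩
  | cons x gs ih =>
    intro K hrad hreg P hP
    rw [isWeaklyRegular_cons_quot] at hreg
    obtain ⟨q, hq, hPq, -⟩ := Groth.Agent.CalgB.CM1.exists_associatedPrimes_quotSMulTop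
      (hrad x (by simp)) hreg.1 hP
    obtain ⟨e⟩ := exists_quotSMulTopEquiv K x
    rw [LinearEquiv.AssociatedPrimes.eq e] at hq
    obtain ⟨P', hP', hle⟩ := ih _ (fun g hg => hrad g (List.mem_cons_of_mem _ hg)) hreg.2 q hq
    rw [sup_ofList_cons]
    exact ⟨P', hP', hPq.trans hle⟩

/-- The backward direction for a sequence. -/
theorem backward [IsNoetherianRing A] {M : Type v} [AddCommGroup M] [Module A M]
    [Module.Finite A M] (gs : List A) : ∀ (R : Ideal A)
    (_ : ∀ g ∈ gs, g ∈ (⊥ : Ideal A).jacobson) (_ : IsWeaklyRegular (A ⧸ R) gs)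
    (_ : NF (R ⊔ Ideal.ofList gs) M)
    (_ : ∀ P ∈ associatedPrimes A (A ⧸ (R ⊔ Ideal.ofList gs)), ∀ _ : P.IsPrime,
      NF R (LocalizedModule P.primeCompl M)), NF R M := by
  induction gs with
  | nil =>
    intro R _ _ h _
    have : R ⊔ Ideal.ofList [] = R := by rw [Ideal.ofList_nil, sup_bot_eq]
    rwa [this] at h
  | cons x gs ih =>
    intro R hrad hreg hNF hloc
    rw [isWeaklyRegular_cons_quot] at hreg
    rw [sup_ofList_cons] at hNF hloc
    have h1 : NF (R ⊔ Ideal.span {x}) M := by
      refine ih _ (fun g hg => hrad g (List.mem_cons_of_mem _ hg)) hreg.2 hNF fun P hP hP' => ?_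
      exact step_forward hreg.1 (hloc P hP hP')
    refine step_backward R (hrad x (by simp)) hreg.1 h1 ?_
    intro h g hg hxg P₁ hP₁
    obtain ⟨P, hP, hle⟩ := exists_assoc_le gs _
      (fun g hg => hrad g (List.mem_cons_of_mem _ hg)) hreg.2 P₁ hP₁
    have hPp : P.IsPrime := hP.1
    let q := LocalizedModule.mkLinearMap P.primeCompl M
    have hreg' : IsSMulRegular (Gr R (LocalizedModule P.primeCompl M) h) x := by
      have := hloc P hP hPp h
      exact regular_of_flat hreg.1 _
    have h2 := (isSMulRegular_iff R h x).mp hreg' (q g) (map_mem R q h hg) (by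
      rw [← map_smul]
      exact map_mem R q (h + 1) hxg)
    obtain ⟨s, hs, hs'⟩ := (Groth.Agent.Ega4dB.LocReg.apply_mem_smul_top_iff P.primeCompl q _ _).mp h2
    exact ⟨s, fun h => hs (hle h), hs'⟩

section Loc

variable {M : Type v} [AddCommGroup M] [Module A M] {M' : Type w} [AddCommGroup M'] [Module A M']
  (T : Submonoid A) (g : M →ₗ[A] M') [IsLocalizedModule T g] (R : Ideal A)

/-- `gr` commutes with localization, `A / R`-linearly. -/
theorem isLocalizedModule_grMap (k : ℕ) : IsLocalizedModule (T.map (Ideal.Quotient.mk R))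
    ((grMap R g k).extendScalarsOfSurjective (Ideal.Quotient.mk_surjective (I := R))) := by
  refine ⟨?_, ?_, ?_⟩
  · rintro ⟨_, s, hs, rfl⟩
    have hu := IsLocalizedModule.map_units g (⟨s, hs⟩ : T)
    rw [Module.End.isUnit_iff] at hu ⊢
    let e : M' ≃ₗ[A] M' := LinearEquiv.ofBijective (algebraMap A (Module.End A M') s) hu
    have he : ∀ z : Gr R M' k, grEquiv R e k z = s • z := by
      intro z
      obtain ⟨y, hy, rfl⟩ := mk_surjective R k z
      rfl
    have : ((algebraMap (A ⧸ R) (Module.End (A ⧸ R) (Gr R M' k)))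
        (Ideal.Quotient.mk R s) : Gr R M' k → Gr R M' k) = grEquiv R e k := by
      ext z
      rw [he]
      rfl
    show Function.Bijective ((algebraMap (A ⧸ R) (Module.End (A ⧸ R) (Gr R M' k)))
        (Ideal.Quotient.mk R s) : Gr R M' k → Gr R M' k)
    rw [this]
    exact (grEquiv R e k).bijective
  · intro z
    obtain ⟨y, hy, rfl⟩ := mk_surjective R k z
    obtain ⟨s, hs, n, hn, hsn⟩ :=
      (Groth.Agent.Ega4dB.LocReg.mem_smul_top_localized_iff T g _ _).mp hy
    refine ⟨⟨Gr.mk R k n hn, ⟨Ideal.Quotient.mk R s, s, hs, rfl⟩⟩, ?_⟩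
    show s • Gr.mk R k y hy = grMap R g k (Gr.mk R k n hn)
    rw [smul_mk, grMap_mk, mk_eq_mk_iff, hsn, sub_self]
    exact zero_mem _
  · intro z1 z2 h
    obtain ⟨y1, hy1, rfl⟩ := mk_surjective R k z1
    obtain ⟨y2, hy2, rfl⟩ := mk_surjective R k z2
    have h' : grMap R g k (Gr.mk R k y1 hy1) = grMap R g k (Gr.mk R k y2 hy2) := h
    rw [grMap_mk, grMap_mk, mk_eq_mk_iff, ← map_sub,
      Groth.Agent.Ega4dB.LocReg.apply_mem_smul_top_iff T g] at h'
    obtain ⟨s, hs, hs'⟩ := h'
    refine ⟨⟨Ideal.Quotient.mk R s, s, hs, rfl⟩, ?_⟩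
    show s • Gr.mk R k y1 hy1 = s • Gr.mk R k y2 hy2
    rw [smul_mk, smul_mk, mk_eq_mk_iff, ← smul_sub]
    exact hs'

end Loc

/-- from the local flatness hypothesis to normal flatness of the localized module. -/
theorem NF_localized {M : Type v} [AddCommGroup M] [Module A M] (R P : Ideal A) (hRP : R ≤ P)
    [hP : P.IsPrime]
    (H : ∀ (p : Ideal (A ⧸ R)) [p.IsPrime], p.comap (Ideal.Quotient.mk R) = P → ∀ k : ℕ,
      Module.Flat (Localization.AtPrime p) (LocalizedModule p.primeCompl (Gr R M k))) :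
    NF R (LocalizedModule P.primeCompl M) := by
  intro k
  let p : Ideal (A ⧸ R) := P.map (Ideal.Quotient.mk R)
  have hpP : p.comap (Ideal.Quotient.mk R) = P := by
    rw [Ideal.comap_map_of_surjective _ Ideal.Quotient.mk_surjective, ← RingHom.ker_eq_comap_bot,
      Ideal.mk_ker, sup_eq_left.mpr hRP]
  have hp : p.IsPrime := Ideal.map_isPrime_of_surjective Ideal.Quotient.mk_surjective (by
    rwa [Ideal.mk_ker])
  have hT : P.primeCompl.map (Ideal.Quotient.mk R) = p.primeCompl := by
    ext s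
    obtain ⟨s, rfl⟩ := Ideal.Quotient.mk_surjective s
    have key : ∀ t : A, t ∈ P ↔ Ideal.Quotient.mk R t ∈ p := fun t => by
      rw [← Ideal.mem_comap, hpP]
    constructor
    · rintro ⟨t, ht, hts⟩
      have hts' : Ideal.Quotient.mk R t = Ideal.Quotient.mk R s := hts
      rw [← hts']
      exact fun h => ht ((key t).mpr h)
    · intro hs
      exact ⟨s, fun h => hs ((key s).mp h), rfl⟩
  have h1 := H p hpP k
  have h2 : Module.Flat (A ⧸ R) (LocalizedModule p.primeCompl (Gr R M k)) :=
    Module.Flat.trans (A ⧸ R) (Localization.AtPrime p) _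
  have h3 := isLocalizedModule_grMap P.primeCompl (LocalizedModule.mkLinearMap P.primeCompl M) R k
  rw [hT] at h3
  exact Module.Flat.of_linearEquiv (IsLocalizedModule.iso p.primeCompl
    ((grMap R (LocalizedModule.mkLinearMap P.primeCompl M) k).extendScalarsOfSurjective
      (Ideal.Quotient.mk_surjective (I := R)))).symm

end K138.Back2
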