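import Groth.Agent.Ega4A.RegSeqFlat
import Mathlib.RingTheory.Ideal.Quotient.Operations
import Mathlib.RingTheory.Flat.Stability
import Mathlib.LinearAlgebra.TensorProduct.Quotient

/-!
# Flatness and regular sequences

* `flat_iff_of_equiv`: transport of flatness along a ring isomorphism.
* `flat_quot_iff`: for ideals `R ≤ J` of `A` and a module `G` over `A / R`, `G / JG` is flat over `A / J`
  iff `(B / JB) ⊗ G` is flat over `B / JB`, `B = A / R`.
* `flat_iff_of_isWeaklyRegular`: for a Noetherian ring `B`, a `B`-regular sequence `rs` in the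
  Jacobson radical and a finite module `G`: `G` is flat iff `G / (rs) G` is flat over `B / (rs)` and
  `rs` is `G`-regular.
-/

set_option autoImplicit false
universe u v w

namespace K138.Basic

open TensorProduct RingTheory.Sequence

theorem flat_of_equiv {A B P Q : Type*} [CommRing A] [CommRing B] [AddCommGroup P]
    [AddCommGroup Q] [Module A P] [Module B Q] (e : A ≃+* B) (f : P ≃+ Q)
    (h : ∀ a p, f (a • p) = e a • f p) (hf : Module.Flat B Q) : Module.Flat A P := by
  let i1 : Algebra A B := e.toRingHom.toAlgebra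
  let i2 : Module A Q := Module.compHom Q e.toRingHom
  have i3 : IsScalarTower A B Q := IsScalarTower.of_algebraMap_smul fun _ _ ↦ rfl
  let e' : A ≃ₗ[A] B := { e with map_smul' := fun a b ↦ e.map_mul a b }
  have i4 : Module.Flat A B := Module.Flat.of_linearEquiv e'.symm
  have i5 : Module.Flat A Q := Module.Flat.trans A B Q
  let f' : P ≃ₗ[A] Q := { f with map_smul' := fun a b ↦ h a b }
  exact Module.Flat.of_linearEquiv f'

theorem flat_iff_of_equiv {A B P Q : Type*} [CommRing A] [CommRing B] [AddCommGroup P]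
    [AddCommGroup Q] [Module A P] [Module B Q] (e : A ≃+* B) (f : P ≃+ Q)
    (h : ∀ a p, f (a • p) = e a • f p) : Module.Flat A P ↔ Module.Flat B Q := by
  refine ⟨flat_of_equiv e.symm f.symm fun b q ↦ ?_, flat_of_equiv e f h⟩
  apply f.injective
  rw [h, AddEquiv.apply_symm_apply, AddEquiv.apply_symm_apply, RingEquiv.apply_symm_apply]

theorem isWeaklyRegular_of_flat {B : Type u} [CommRing B] {G : Type v} [AddCommGroup G]
    [Module B G] [Module.Flat B G] {rs : List B} (h : IsWeaklyRegular B rs) :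
    IsWeaklyRegular G rs := by
  have h1 : IsWeaklyRegular (G ⊗[B] B) rs := h.isWeaklyRegular_lTensor
  exact ((TensorProduct.rid B G).isWeaklyRegular_congr rs).1 h1

/-- The local criterion for an ideal in the Jacobson radical generated by a regular sequence. -/
theorem flat_iff_of_isWeaklyRegular {B : Type u} [CommRing B] [IsNoetherianRing B] {G : Type v}
    [AddCommGroup G] [Module B G] [Module.Finite B G] {rs : List B}
    (hrad : ∀ r ∈ rs, r ∈ (⊥ : Ideal B).jacobson) (hreg : IsWeaklyRegular B rs) :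
    Module.Flat B G ↔ Module.Flat (B ⧸ Ideal.ofList rs) ((B ⧸ Ideal.ofList rs) ⊗[B] G) ∧
      IsWeaklyRegular G rs := by
  constructor
  · intro h
    exact ⟨inferInstance, isWeaklyRegular_of_flat hreg⟩
  · rintro ⟨h1, h2⟩
    refine Groth.Agent.Flat2E.LocalCrit.flat_of_rTensor_injective (S := B) (Ideal.ofList rs) ?_
      (Groth.Agent.Ega4A.RegSeqFlat.rTensor_subtype_injective_of_isWeaklyRegular h2) h1
    rw [Algebra.algebraMap_self, Ideal.map_id, Ideal.ofList, Ideal.span_le]
    exact fun r hr => hrad r hr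

theorem mem_smul_top_iff {A B G : Type*} [CommRing A] [CommRing B] [Algebra A B] [AddCommGroup G]
    [Module A G] [Module B G] [IsScalarTower A B G] (J : Ideal A) (x : G) :
    x ∈ (J • (⊤ : Submodule A G)) ↔ x ∈ ((J.map (algebraMap A B)) • (⊤ : Submodule B G)) := by
  have h := Ideal.smul_restrictScalars (R := A) (S := B) J (⊤ : Submodule B G)
  rw [← Submodule.restrictScalars_mem A (J.map (algebraMap A B) • (⊤ : Submodule B G)),
    h, Submodule.restrictScalars_top]

/-- Flatness of `G / JG` over `A / J` for a module `G` over `A / R`, `R ≤ J`. -/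
theorem flat_quot_iff {A : Type u} [CommRing A] {R J : Ideal A} (hRJ : R ≤ J) (G : Type v)
    [AddCommGroup G] [Module A G] [Module (A ⧸ R) G] [IsScalarTower A (A ⧸ R) G] :
    Module.Flat (A ⧸ J) (G ⧸ (J • (⊤ : Submodule A G))) ↔
      Module.Flat ((A ⧸ R) ⧸ J.map (Ideal.Quotient.mk R))
        (((A ⧸ R) ⧸ J.map (Ideal.Quotient.mk R)) ⊗[A ⧸ R] G) := by
  let J' := J.map (Ideal.Quotient.mk R)
  let e : (A ⧸ R) ⧸ J' ≃+* A ⧸ J := DoubleQuot.quotQuotEquivQuotOfLE hRJ
  have hmem : ∀ x : G, x ∈ (J • (⊤ : Submodule A G)) ↔ x ∈ (J' • (⊤ : Submodule (A ⧸ R) G)) :=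
    fun x => mem_smul_top_iff J x
  let q1 : (G ⧸ (J • (⊤ : Submodule A G))) ≃+ (G ⧸ (J' • (⊤ : Submodule (A ⧸ R) G))) :=
    QuotientAddGroup.quotientAddEquivOfEq (by
      ext x
      exact hmem x)
  let q2 := (TensorProduct.quotTensorEquivQuotSMul G J').symm
  symm
  refine flat_iff_of_equiv e (q2.symm.toAddEquiv.trans q1.symm) ?_
  intro a p
  obtain ⟨p, rfl⟩ := q2.surjective p
  obtain ⟨p, rfl⟩ := q1.surjective p
  obtain ⟨p, rfl⟩ := Submodule.Quotient.mk_surjective _ p
  obtain ⟨a, rfl⟩ := Ideal.Quotient.mk_surjective a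
  obtain ⟨a, rfl⟩ := Ideal.Quotient.mk_surjective a
  have h1 : (Ideal.Quotient.mk J' (Ideal.Quotient.mk R a)) • q2 (q1 (Submodule.Quotient.mk p)) =
      q2 ((Ideal.Quotient.mk R a) • (q1 (Submodule.Quotient.mk p))) := by
    rw [map_smul]
    rfl
  rw [h1]
  show q1.symm (q2.symm (q2 ((Ideal.Quotient.mk R a) • (q1 (Submodule.Quotient.mk p))))) =
    (Ideal.Quotient.mk J a) • q1.symm (q2.symm (q2 (q1 (Submodule.Quotient.mk p))))
  rw [LinearEquiv.symm_apply_apply, LinearEquiv.symm_apply_apply, AddEquiv.symm_apply_apply]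
  apply q1.injective
  rw [AddEquiv.apply_symm_apply]
  have h5 : (Ideal.Quotient.mk J a) • (Submodule.Quotient.mk p : G ⧸ (J • (⊤ : Submodule A G))) =
    Submodule.Quotient.mk (a • p) := rfl
  rw [h5]
  have h3 : q1 (Submodule.Quotient.mk (a • p)) =
    (Submodule.Quotient.mk (a • p) : G ⧸ (J' • (⊤ : Submodule (A ⧸ R) G))) := rfl
  have h4 : q1 (Submodule.Quotient.mk p) =
    (Submodule.Quotient.mk p : G ⧸ (J' • (⊤ : Submodule (A ⧸ R) G))) := rfl
  rw [h3, h4, ← Submodule.Quotient.mk_smul]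
  congr 1
  exact algebraMap_smul (A ⧸ R) a p

theorem mem_jacobson_quotient {A : Type u} [CommRing A] (R : Ideal A) {x : A}
    (hx : x ∈ (⊥ : Ideal A).jacobson) : Ideal.Quotient.mk R x ∈ (⊥ : Ideal (A ⧸ R)).jacobson := by
  rw [← Ideal.mem_comap, Ideal.comap_jacobson_of_surjective Ideal.Quotient.mk_surjective]
  exact Ideal.jacobson_mono bot_le hx

theorem span_range_eq_ofList {A : Type u} [CommRing A] {n : ℕ} (f : Fin n → A) :
    Ideal.span (Set.range f) = Ideal.ofList (List.ofFn f) := by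
  rw [Ideal.ofList]
  congr 1
  ext r
  simp only [List.mem_ofFn, Set.mem_range]
  rfl

end K138.Basic
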