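import Groth.Agent.Ega4dB.NormFlat
import Groth.Agent.CInt.K138.Basic

/-!
# Graded pieces `I^n M / I^(n+1) M` and regular sequences

* `Gr I M n`, `grMap`.
* `quotEquiv`: if `x` is regular on all graded pieces then `gr(M / xM) = gr(M) / x gr(M)`.
* `isWeaklyRegular_of_gr`: a sequence regular on all graded pieces is regular on `M`
  (`A` Noetherian, `M` finite, `I` in the Jacobson radical).
-/

set_option autoImplicit false
universe u v w

namespace K138.Gr

open RingTheory.Sequence
open scoped Pointwise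

variable {A : Type u} [CommRing A]

/-- The graded piece `I^n M / I^(n+1) M`. -/
abbrev Gr (I : Ideal A) (M : Type v) [AddCommGroup M] [Module A M] (n : ℕ) : Type v :=
  ↥(I ^ n • (⊤ : Submodule A M)) ⧸ (I • (⊤ : Submodule A ↥(I ^ n • (⊤ : Submodule A M))))

variable {M : Type v} [AddCommGroup M] [Module A M] {M' : Type w} [AddCommGroup M'] [Module A M']

/-- The class of an element of `I^n M`. -/
def mk (I : Ideal A) (n : ℕ) (y : M) (hy : y ∈ I ^ n • (⊤ : Submodule A M)) : Gr I M n :=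
  Submodule.Quotient.mk ⟨y, hy⟩

theorem mk_surjective (I : Ideal A) (n : ℕ) (z : Gr I M n) : ∃ y hy, mk I n y hy = z := by
  obtain ⟨⟨y, hy⟩, rfl⟩ := Submodule.Quotient.mk_surjective _ z
  exact ⟨y, hy, rfl⟩

theorem mk_eq_zero_iff (I : Ideal A) (n : ℕ) (y : M) (hy : y ∈ I ^ n • (⊤ : Submodule A M)) :
    mk I n y hy = 0 ↔ y ∈ I ^ (n + 1) • (⊤ : Submodule A M) := by
  rw [mk, Submodule.Quotient.mk_eq_zero, Submodule.mem_smul_top_iff, pow_succ',
    Submodule.mul_smul]

theorem smul_mk (I : Ideal A) (n : ℕ) (y : M) (hy : y ∈ I ^ n • (⊤ : Submodule A M)) (a : A) :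
    a • mk I n y hy = mk I n (a • y) (Submodule.smul_mem _ a hy) := rfl

theorem mk_eq_mk_iff (I : Ideal A) (n : ℕ) (y z : M) (hy : y ∈ I ^ n • (⊤ : Submodule A M))
    (hz : z ∈ I ^ n • (⊤ : Submodule A M)) :
    mk I n y hy = mk I n z hz ↔ y - z ∈ I ^ (n + 1) • (⊤ : Submodule A M) := by
  rw [← mk_eq_zero_iff I n (y - z) (sub_mem hy hz), ← sub_eq_zero]
  rfl

theorem isSMulRegular_iff (I : Ideal A) (n : ℕ) (x : A) :
    IsSMulRegular (Gr I M n) x ↔ ∀ y ∈ I ^ n • (⊤ : Submodule A M),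
      x • y ∈ I ^ (n + 1) • (⊤ : Submodule A M) → y ∈ I ^ (n + 1) • (⊤ : Submodule A M) := by
  rw [isSMulRegular_iff_right_eq_zero_of_smul]
  constructor
  · intro h y hy hxy
    rw [← mk_eq_zero_iff I n y hy]
    apply h
    rw [smul_mk, mk_eq_zero_iff]
    exact hxy
  · intro h z hz
    obtain ⟨y, hy, rfl⟩ := mk_surjective I n z
    rw [smul_mk, mk_eq_zero_iff] at hz
    rw [mk_eq_zero_iff]
    exact h y hy hz

theorem map_mem (I : Ideal A) (φ : M →ₗ[A] M') (n : ℕ) {y : M}
    (hy : y ∈ I ^ n • (⊤ : Submodule A M)) : φ y ∈ I ^ n • (⊤ : Submodule A M') := by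
  have h := Submodule.mem_map_of_mem (f := φ) hy
  rw [Submodule.map_smul''] at h
  exact Submodule.smul_mono le_rfl le_top h

/-- The map induced on graded pieces. -/
def grMap (I : Ideal A) (φ : M →ₗ[A] M') (n : ℕ) : Gr I M n →ₗ[A] Gr I M' n :=
  Submodule.mapQ _ _ (φ.restrict fun _ hy => map_mem I φ n hy) (by
    rw [← Submodule.map_le_iff_le_comap, Submodule.map_smul'']
    exact Submodule.smul_mono le_rfl le_top)

theorem grMap_mk (I : Ideal A) (φ : M →ₗ[A] M') (n : ℕ) (y : M)
    (hy : y ∈ I ^ n • (⊤ : Submodule A M)) :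
    grMap I φ n (mk I n y hy) = mk I n (φ y) (map_mem I φ n hy) := rfl

theorem exists_of_surjective (I : Ideal A) {φ : M →ₗ[A] M'} (hφ : Function.Surjective φ) (n : ℕ)
    (z : M') (hz : z ∈ I ^ n • (⊤ : Submodule A M')) :
    ∃ y ∈ I ^ n • (⊤ : Submodule A M), φ y = z := by
  have h : z ∈ (I ^ n • (⊤ : Submodule A M)).map φ := by
    rw [Submodule.map_smul'', Submodule.map_top, LinearMap.range_eq_top.mpr hφ]
    exact hz
  exact h

theorem grMap_surjective (I : Ideal A) {φ : M →ₗ[A] M'} (hφ : Function.Surjective φ) (n : ℕ) :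
    Function.Surjective (grMap I φ n) := by
  intro z
  obtain ⟨z, hz, rfl⟩ := mk_surjective I n z
  obtain ⟨y, hy, rfl⟩ := exists_of_surjective I hφ n z hz
  exact ⟨mk I n y hy, rfl⟩

/-- An equivalence induces equivalences on the graded pieces. -/
noncomputable def grEquiv (I : Ideal A) (e : M ≃ₗ[A] M') (n : ℕ) : Gr I M n ≃ₗ[A] Gr I M' n :=
  LinearEquiv.ofBijective (grMap I (e : M →ₗ[A] M') n) ⟨by
    rw [injective_iff_map_eq_zero]
    intro z hz
    obtain ⟨y, hy, rfl⟩ := mk_surjective I n z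
    rw [grMap_mk, mk_eq_zero_iff] at hz
    rw [mk_eq_zero_iff]
    have := map_mem I (e.symm : M' →ₗ[A] M) (n + 1) hz
    simpa using this, grMap_surjective I e.surjective n⟩

/-- `x` is regular modulo `I^n M` if it is regular on the graded pieces. -/
theorem mem_of_smul_mem (I : Ideal A) {x : A} (hx : ∀ n, IsSMulRegular (Gr I M n) x) (n : ℕ)
    (y : M) (hy : x • y ∈ I ^ n • (⊤ : Submodule A M)) : y ∈ I ^ n • (⊤ : Submodule A M) :=
  Groth.Agent.Ega4dB.NormFlat.mem_of_smul_mem I x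
    (fun j y hy hxy => (isSMulRegular_iff I j x).mp (hx j) y hy hxy) n y hy

theorem ker_grMap_mkQ (I : Ideal A) {x : A} (hx : ∀ n, IsSMulRegular (Gr I M n) x) (n : ℕ) :
    LinearMap.ker (grMap I (x • (⊤ : Submodule A M)).mkQ n) = x • (⊤ : Submodule A (Gr I M n)) := by
  apply le_antisymm
  · intro z hz
    obtain ⟨y, hy, rfl⟩ := mk_surjective I n z
    rw [LinearMap.mem_ker, grMap_mk, mk_eq_zero_iff] at hz
    obtain ⟨w, hw, hwy⟩ := exists_of_surjective I (x • (⊤ : Submodule A M)).mkQ_surjective _ _ hz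
    have h1 : y - w ∈ x • (⊤ : Submodule A M) := by
      rw [← Submodule.Quotient.mk_eq_zero, Submodule.Quotient.mk_sub, sub_eq_zero]
      exact hwy.symm
    obtain ⟨v, -, hv⟩ := (Submodule.mem_smul_pointwise_iff_exists _ _ _).mp h1
    have h2 : v ∈ I ^ n • (⊤ : Submodule A M) := by
      apply mem_of_smul_mem I hx
      rw [hv]
      exact sub_mem hy (Groth.Agent.Ega4dB.NormFlat.pow_anti I (Nat.le_succ n) hw)
    rw [Submodule.mem_smul_pointwise_iff_exists]
    refine ⟨mk I n v h2, trivial, ?_⟩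
    rw [smul_mk, mk_eq_mk_iff, hv]
    have : y - w - y = -w := by abel
    rw [this]
    exact neg_mem hw
  · intro z hz
    obtain ⟨v, -, rfl⟩ := (Submodule.mem_smul_pointwise_iff_exists _ _ _).mp hz
    rw [LinearMap.mem_ker]
    obtain ⟨y, hy, rfl⟩ := mk_surjective I n v
    rw [smul_mk, grMap_mk, mk_eq_zero_iff]
    have : (x • (⊤ : Submodule A M)).mkQ (x • y) = 0 := by
      rw [Submodule.mkQ_apply, Submodule.Quotient.mk_eq_zero]
      exact Submodule.smul_mem_pointwise_smul _ _ _ trivial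
    rw [this]
    exact zero_mem _

/-- `gr(M / xM) = gr(M) / x gr(M)`. -/
noncomputable def quotEquiv (I : Ideal A) {x : A} (hx : ∀ n, IsSMulRegular (Gr I M n) x) (n : ℕ) :
    QuotSMulTop x (Gr I M n) ≃ₗ[A] Gr I (QuotSMulTop x M) n :=
  (Submodule.quotEquivOfEq _ _ (ker_grMap_mkQ I hx n).symm).trans
    ((grMap I (x • (⊤ : Submodule A M)).mkQ n).quotKerEquivOfSurjective
      (grMap_surjective I (Submodule.mkQ_surjective _) n))

/-- A sequence which is regular on all graded pieces of `N` is regular on `N`. -/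
theorem isWeaklyRegular_of_gr [IsNoetherianRing A] (I : Ideal A) (hI : I ≤ (⊥ : Ideal A).jacobson)
    (fs : List A) : ∀ (N : Type v) [AddCommGroup N] [Module A N] [Module.Finite A N],
      (∀ n, IsWeaklyRegular (Gr I N n) fs) → IsWeaklyRegular N fs := by
  induction fs with
  | nil => intro N _ _ _ _; exact IsWeaklyRegular.nil A N
  | cons x fs ih =>
    intro N _ _ _ h
    have hx : ∀ n, IsSMulRegular (Gr I N n) x := fun n =>
      ((isWeaklyRegular_cons_iff _ _ _).mp (h n)).1
    refine IsWeaklyRegular.cons ?_ (ih _ fun n => ?_)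
    · rw [isSMulRegular_iff_right_eq_zero_of_smul]
      intro y hy
      have h1 : y ∈ (⨅ i : ℕ, I ^ i • ⊤ : Submodule A N) := by
        rw [Submodule.mem_iInf]
        intro i
        apply mem_of_smul_mem I hx
        rw [hy]
        exact zero_mem _
      rw [Ideal.iInf_pow_smul_eq_bot_of_le_jacobson I hI] at h1
      simpa using h1
    · have h2 := ((isWeaklyRegular_cons_iff _ _ _).mp (h n)).2
      exact ((quotEquiv I hx n).isWeaklyRegular_congr fs).mp h2

end K138.Gr
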