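import Groth.Agent.CInt.K138.Back2
import Groth.Agent.Ega4dB.NormFlat4
import Mathlib.RingTheory.Flat.Localization
import Mathlib.RingTheory.Localization.Ideal
import Mathlib.RingTheory.Spectrum.Prime.FreeLocus

/-!
# Graded pieces of a module under localization of the ring

`A → A'` a localization, `M → M'` the localization of a module:
* `isLocalizedModule_delta`: `Gr I M n → Gr (I A') M' n` is a localization, over `A / I`.
* `flat_gr`: flatness of the graded pieces over `A / I` can be checked at the primes containing `I`.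
* `mu_eq_rankAtStalk`: the minimal number of generators of `(I A')^n M'` is the rank of
  `Gr I M n`.
-/

set_option autoImplicit false
universe u v w

namespace K138.GrLocM

open K138 K138.Gr K138.Basic
open scoped TensorProduct

variable {A : Type u} [CommRing A] (I : Ideal A) {M : Type v} [AddCommGroup M] [Module A M]
  (A' : Type u) [CommRing A'] [Algebra A A']
  {M' : Type w} [AddCommGroup M'] [Module A M'] [Module A' M'] [IsScalarTower A A' M']
  (g : M →ₗ[A] M')

theorem mem_pow_smul_top_iff (n : ℕ) (y : M') :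
    y ∈ I ^ n • (⊤ : Submodule A M') ↔
      y ∈ (I.map (algebraMap A A')) ^ n • (⊤ : Submodule A' M') := by
  rw [mem_smul_top_iff (B := A') (I ^ n), Ideal.map_pow]

theorem map_mem' (n : ℕ) {y : M} (hy : y ∈ I ^ n • (⊤ : Submodule A M)) :
    g y ∈ (I.map (algebraMap A A')) ^ n • (⊤ : Submodule A' M') :=
  (mem_pow_smul_top_iff I A' n _).mp (map_mem I g n hy)

/-- The comparison of graded pieces over `A` and over `A'`. -/
noncomputable def delta (n : ℕ) : Gr I M n →ₗ[A] Gr (I.map (algebraMap A A')) M' n :=
  Submodule.liftQ (I • (⊤ : Submodule A ↥(I ^ n • (⊤ : Submodule A M))))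
    ({ toFun := fun y => Gr.mk (I.map (algebraMap A A')) n (g y.1) (map_mem' I A' g n y.2)
       map_add' := fun a b => by
          unfold Gr.mk
          rw [← Submodule.Quotient.mk_add]
          congr 1
          apply Subtype.ext
          exact map_add g _ _
       map_smul' := fun a y => by
          rw [RingHom.id_apply]
          refine Eq.trans ?_ (algebraMap_smul A' a (Gr.mk (I.map (algebraMap A A')) n (g y.1)
            (map_mem' I A' g n y.2)))
          rw [smul_mk]
          unfold Gr.mk
          congr 1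
          apply Subtype.ext
          show g (a • y.1) = (algebraMap A A' a) • g y.1
          rw [algebraMap_smul, map_smul] } :
      ↥(I ^ n • (⊤ : Submodule A M)) →ₗ[A] Gr (I.map (algebraMap A A')) M' n)
    (by
      intro y hy
      rw [Submodule.mem_smul_top_iff, ← Submodule.mul_smul, ← pow_succ'] at hy
      rw [LinearMap.mem_ker]
      show Gr.mk (I.map (algebraMap A A')) n (g y.1) (map_mem' I A' g n y.2) = 0
      rw [mk_eq_zero_iff]
      exact map_mem' I A' g (n + 1) hy)

theorem delta_mk (n : ℕ) (y : M) (hy : y ∈ I ^ n • (⊤ : Submodule A M)) :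
    delta I A' g n (Gr.mk I n y hy) =
      Gr.mk (I.map (algebraMap A A')) n (g y) (map_mem' I A' g n hy) := rfl

/-- the `A / I`-module structure on the graded pieces over `A'`. -/
noncomputable abbrev modG (M' : Type w) [AddCommGroup M'] [Module A' M'] (n : ℕ) :
    Module (A ⧸ I) (Gr (I.map (algebraMap A A')) M' n) :=
  Module.compHom _ (algebraMap (A ⧸ I) (A' ⧸ I.map (algebraMap A A')))

theorem mk_smulG (n : ℕ) (a : A) (z : Gr (I.map (algebraMap A A')) M' n) :
    letI := modG I A' M' n
    (Ideal.Quotient.mk I a) • z = (algebraMap A A' a) • z := by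
  obtain ⟨y, hy, rfl⟩ := mk_surjective _ n z
  rfl

theorem delta_smul (n : ℕ) (a : A) (z : Gr I M n) :
    letI := modG I A' M' n
    delta I A' g n (Ideal.Quotient.mk I a • z) = Ideal.Quotient.mk I a • delta I A' g n z := by
  let := modG I A' M' n
  obtain ⟨y, hy, rfl⟩ := mk_surjective I n z
  have e1 : Ideal.Quotient.mk I a • Gr.mk I n y hy = Gr.mk I n (a • y)
    (Submodule.smul_mem _ _ hy) := rfl
  have e2 : Ideal.Quotient.mk I a • Gr.mk (I.map (algebraMap A A')) n (g y)
    (map_mem' I A' g n hy) = Gr.mk (I.map (algebraMap A A')) n (algebraMap A A' a • g y)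
    (Submodule.smul_mem _ _ (map_mem' I A' g n hy)) := rfl
  rw [e1, delta_mk, delta_mk, e2, mk_eq_mk_iff, algebraMap_smul, map_smul, sub_self]
  exact zero_mem _

/-- The comparison map is `A / I`-linear. -/
noncomputable def deltaB (n : ℕ) :
    letI := modG I A' M' n
    Gr I M n →ₗ[A ⧸ I] Gr (I.map (algebraMap A A')) M' n :=
  letI := modG I A' M' n
  { toFun := delta I A' g n
    map_add' := fun y z => map_add (delta I A' g n) y z
    map_smul' := fun b z => by
      obtain ⟨a, rfl⟩ := Ideal.Quotient.mk_surjective b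
      exact delta_smul I A' g n a z }

theorem deltaB_mk (n : ℕ) (y : M) (hy : y ∈ I ^ n • (⊤ : Submodule A M)) :
    deltaB I A' g n (Gr.mk I n y hy) =
      Gr.mk (I.map (algebraMap A A')) n (g y) (map_mem' I A' g n hy) := rfl

theorem isLocalizedModule_deltaB (T : Submonoid A) [IsLocalization T A'] [IsLocalizedModule T g]
    (n : ℕ) :
    letI := modG I A' M' n
    IsLocalizedModule (T.map (Ideal.Quotient.mk I)) (deltaB I A' g n) := by
  let := modG I A' M' n
  refine ⟨?_, ?_, ?_⟩
  · rintro ⟨_, s, hs, rfl⟩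
    have hu : IsUnit (algebraMap (A ⧸ I) (A' ⧸ I.map (algebraMap A A')) (Ideal.Quotient.mk I s)) := by
      have h1 : IsUnit (algebraMap A A' s) := IsLocalization.map_units A' (⟨s, hs⟩ : T)
      exact h1.map (Ideal.Quotient.mk (I.map (algebraMap A A')))
    rw [Module.End.isUnit_iff]
    have h2 := hu.map (algebraMap (A' ⧸ I.map (algebraMap A A'))
      (Module.End (A' ⧸ I.map (algebraMap A A')) (Gr (I.map (algebraMap A A')) M' n)))
    rw [Module.End.isUnit_iff] at h2
    exact h2
  · intro z
    obtain ⟨y, hy, rfl⟩ := mk_surjective _ n z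
    rw [← mem_pow_smul_top_iff] at hy
    obtain ⟨s, hs, m, hm, hsm⟩ :=
      (Groth.Agent.Ega4dB.LocReg.mem_smul_top_localized_iff T g _ _).mp hy
    refine ⟨⟨Gr.mk I n m hm, ⟨Ideal.Quotient.mk I s, s, hs, rfl⟩⟩, ?_⟩
    show (Ideal.Quotient.mk I s) • Gr.mk (I.map (algebraMap A A')) n y _ = _
    rw [mk_smulG, smul_mk, deltaB_mk, mk_eq_mk_iff, ← hsm, algebraMap_smul, sub_self]
    exact zero_mem _
  · intro z1 z2 h
    obtain ⟨y1, hy1, rfl⟩ := mk_surjective I n z1
    obtain ⟨y2, hy2, rfl⟩ := mk_surjective I n z2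
    rw [deltaB_mk, deltaB_mk, mk_eq_mk_iff, ← map_sub, ← mem_pow_smul_top_iff,
      Groth.Agent.Ega4dB.LocReg.apply_mem_smul_top_iff T g] at h
    obtain ⟨s, hs, hs'⟩ := h
    refine ⟨⟨Ideal.Quotient.mk I s, s, hs, rfl⟩, ?_⟩
    show s • Gr.mk I n y1 hy1 = s • Gr.mk I n y2 hy2
    rw [smul_mk, smul_mk, mk_eq_mk_iff, ← smul_sub]
    exact hs'

theorem isScalarTower_modG (n : ℕ) :
    letI := modG I A' M' n
    IsScalarTower (A ⧸ I) (A' ⧸ I.map (algebraMap A A')) (Gr (I.map (algebraMap A A')) M' n) := by
  let := modG I A' M' n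
  exact ⟨fun a b c => (congrArg (· • c) (Algebra.smul_def a b)).trans (mul_smul _ _ _)⟩

/-- flatness over `A / I` of the graded pieces over the localization. -/
theorem flat_modG (T : Submonoid A) [IsLocalization T A'] (n : ℕ)
    (h : Module.Flat (A' ⧸ I.map (algebraMap A A')) (Gr (I.map (algebraMap A A')) M' n)) :
    letI := modG I A' M' n
    Module.Flat (A ⧸ I) (Gr (I.map (algebraMap A A')) M' n) := by
  let := modG I A' M' n
  have _ := isScalarTower_modG (M' := M') I A' n
  have _ : Module.Flat (A ⧸ I) (A' ⧸ I.map (algebraMap A A')) :=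
    IsLocalization.flat _ (Algebra.algebraMapSubmonoid (A ⧸ I) T)
  exact Module.Flat.trans _ (A' ⧸ I.map (algebraMap A A')) _

theorem map_primeCompl (P : Ideal (A ⧸ I)) [P.IsPrime] :
    (P.comap (Ideal.Quotient.mk I)).primeCompl.map (Ideal.Quotient.mk I) = P.primeCompl := by
  ext s
  constructor
  · rintro ⟨t, ht, rfl⟩
    exact ht
  · intro hs
    obtain ⟨s, rfl⟩ := Ideal.Quotient.mk_surjective s
    exact ⟨s, hs, rfl⟩

/-- Flatness of the graded pieces can be checked after localizing at the primes containing `I`. -/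
theorem flat_gr (I : Ideal A) (n : ℕ)
    (H : ∀ (p : Ideal A) [p.IsPrime], I ≤ p → ∃ (A' : Type u) (_ : CommRing A') (_ : Algebra A A')
      (_ : IsLocalization.AtPrime A' p) (M' : Type v) (_ : AddCommGroup M') (_ : Module A M')
      (_ : Module A' M') (_ : IsScalarTower A A' M') (g : M →ₗ[A] M')
      (_ : IsLocalizedModule p.primeCompl g),
      Module.Flat (A' ⧸ I.map (algebraMap A A')) (Gr (I.map (algebraMap A A')) M' n)) :
    Module.Flat (A ⧸ I) (Gr I M n) := by
  apply Module.flat_of_localized_maximal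
  intro P hP
  obtain ⟨A', _, _, hA', M', _, _, _, _, g, hg, hfl⟩ := H (P.comap (Ideal.Quotient.mk I)) (by
    intro x hx
    rw [Ideal.mem_comap, Ideal.Quotient.eq_zero_iff_mem.mpr hx]
    exact P.zero_mem)
  let := modG I A' M' n
  have h1 := flat_modG I A' (P.comap (Ideal.Quotient.mk I)).primeCompl n hfl
  have h2 := isLocalizedModule_deltaB I A' g (P.comap (Ideal.Quotient.mk I)).primeCompl n
  rw [map_primeCompl] at h2
  exact Module.Flat.of_linearEquiv (IsLocalizedModule.iso P.primeCompl (deltaB I A' g n))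

/-- The minimal number of generators of `(I A')^n M'` is the rank of `Gr I M n`. -/
theorem mu_eq_rankAtStalk [IsNoetherianRing A] [Module.Finite A M] (p : Ideal A) [p.IsPrime]
    (hIp : I ≤ p) [IsLocalization.AtPrime A' p] [IsLocalRing A'] [IsLocalizedModule p.primeCompl g]
    (P : PrimeSpectrum (A ⧸ I)) (hP : P.asIdeal.comap (Ideal.Quotient.mk I) = p) (n : ℕ)
    (hfl : Module.Flat (A ⧸ I) (Gr I M n)) :
    Groth.Agent.Ega4dB.NormFlat4.mu (I.map (algebraMap A A')) M' n =
      Module.rankAtStalk (R := A ⧸ I) (Gr I M n) P := by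
  have hN : IsNoetherianRing A' := IsLocalization.isNoetherianRing p.primeCompl A' inferInstance
  have hfinM' : Module.Finite A' M' := Module.Finite.of_isLocalizedModule p.primeCompl g
  have hI' : I.map (algebraMap A A') ≤ IsLocalRing.maximalIdeal A' := by
    rw [← IsLocalization.AtPrime.map_eq_maximalIdeal p A']
    exact Ideal.map_mono hIp
  let C := A' ⧸ I.map (algebraMap A A')
  have hCn : Nontrivial C := Ideal.Quotient.nontrivial_iff.mpr
    (ne_top_of_le_ne_top (IsLocalRing.maximalIdeal.isMaximal A').ne_top hI')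
  have hCl : IsLocalRing C := IsLocalRing.of_surjective' (Ideal.Quotient.mk _)
    Ideal.Quotient.mk_surjective
  let := modG I A' M' n
  have i1 := isScalarTower_modG (M' := M') I A' n
  have h2 := isLocalizedModule_deltaB I A' g p.primeCompl n
  have i2 : IsLocalization (p.primeCompl.map (Ideal.Quotient.mk I)) C :=
    inferInstanceAs (IsLocalization (Algebra.algebraMapSubmonoid (A ⧸ I) p.primeCompl) C)
  have h3 : IsBaseChange C (deltaB I A' g n) :=
    IsLocalizedModule.isBaseChange (p.primeCompl.map (Ideal.Quotient.mk I)) C (deltaB I A' g n)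
  have i3 : Module.Finite (A ⧸ I) (Gr I M n) := Module.Finite.of_restrictScalars_finite A _ _
  have h4 := Module.rankAtStalk_isBaseChange h3 (IsLocalRing.closedPoint C)
  have h5 : (IsLocalRing.maximalIdeal C).comap (Ideal.Quotient.mk (I.map (algebraMap A A'))) =
      IsLocalRing.maximalIdeal A' :=
    IsLocalRing.eq_maximalIdeal (Ideal.comap_isMaximal_of_surjective _
      Ideal.Quotient.mk_surjective)
  have h6 : (IsLocalRing.closedPoint C).comap (algebraMap (A ⧸ I) C) = P := by
    apply PrimeSpectrum.ext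
    apply Ideal.comap_injective_of_surjective _ (Ideal.Quotient.mk_surjective (I := I))
    rw [hP]
    show ((IsLocalRing.maximalIdeal C).comap (algebraMap (A ⧸ I) C)).comap (Ideal.Quotient.mk I) = p
    rw [Ideal.comap_comap]
    have h7 : (algebraMap (A ⧸ I) C).comp (Ideal.Quotient.mk I) =
      (Ideal.Quotient.mk (I.map (algebraMap A A'))).comp (algebraMap A A') := rfl
    rw [h7, ← Ideal.comap_comap, h5]
    exact IsLocalization.AtPrime.under_maximalIdeal A' p
  rw [h6] at h4
  rw [← h4]
  have i4 : Module.Flat C (Gr (I.map (algebraMap A A')) M' n) := Module.Flat.isBaseChange _ _ _ _ h3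
  have i5 : Module.Finite C (Gr (I.map (algebraMap A A')) M' n) :=
    Module.Finite.of_restrictScalars_finite A' _ _
  have i6 : Module.Free C (Gr (I.map (algebraMap A A')) M' n) := Module.free_of_flat_of_isLocalRing
  rw [Module.rankAtStalk_eq_finrank_of_free]
  exact (Groth.Agent.Ega4dB.NormFlat2.finrank_quot_of_le hI' (IsNoetherian.noetherian
    (I.map (algebraMap A A') ^ n • (⊤ : Submodule A' M')))).symm

end K138.GrLocM
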