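import Groth.Agent.Sga2.GeomDepth
import Groth.Agent.CurvesB.FlatRegular
import Mathlib.RingTheory.Flat.IsBaseChange
import Mathlib.RingTheory.TensorProduct.IsBaseChangePi
import Mathlib.RingTheory.TensorProduct.IsBaseChangeRightExact

/-!
# The module of relations modulo the trivial relations and its base change

* `Hm x`: the kernel of `A^n / (Koszul relations) → A`, `a ↦ ∑ a_i x_i`.
* `isBaseChange_H`: it commutes with flat base change.
* `spanFinrank_H`: its minimal number of generators is unchanged by flat local base change.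
-/

set_option autoImplicit false
universe u v w

namespace K138.KosH

open Groth.Agent.Sga2.GeomDepth IsLocalRing TensorProduct

section General

variable {R : Type*} [CommRing R] {S : Type*} [CommRing S] [Algebra R S]
  {M₁ M₂ N₁ N₂ : Type*} [AddCommGroup M₁] [AddCommGroup M₂]
  [AddCommGroup N₁] [AddCommGroup N₂] [Module R M₁] [Module R M₂]
  [Module R N₁] [Module R N₂] [Module S N₁] [Module S N₂]
  [IsScalarTower R S N₁] [IsScalarTower R S N₂]

theorem isBaseChange_quot (h₁ : M₁ →ₗ[R] N₁) (h₂ : M₂ →ₗ[R] N₂)
    (f : M₁ →ₗ[R] M₂) (f' : N₁ →ₗ[S] N₂) (comm : ∀ a, h₂ (f a) = f' (h₁ a))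
    (isb₁ : IsBaseChange S h₁) (isb₂ : IsBaseChange S h₂)
    (K : Submodule R M₂) (hK : K = LinearMap.range f) (K' : Submodule S N₂)
    (hK' : K' = LinearMap.range f') (h₃ : (M₂ ⧸ K) →ₗ[R] (N₂ ⧸ K'))
    (hh : ∀ a, h₃ (Submodule.Quotient.mk a) = Submodule.Quotient.mk (h₂ a)) :
    IsBaseChange S h₃ := by
  refine IsBaseChange.of_right_exact S h₁ h₂ h₃ (f := f) (g := K.mkQ) (f' := f') (g' := K'.mkQ)
    (LinearMap.ext comm) (LinearMap.ext hh) isb₁ isb₂ ?_ K.mkQ_surjective ?_ K'.mkQ_surjective
  · rw [LinearMap.exact_iff, Submodule.ker_mkQ, hK]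
  · rw [LinearMap.exact_iff, Submodule.ker_mkQ, hK']

theorem isBaseChange_sub [Module.Flat R S] (h₁ : M₁ →ₗ[R] N₁) (h₂ : M₂ →ₗ[R] N₂)
    (f : M₁ →ₗ[R] M₂) (f' : N₁ →ₗ[S] N₂) (comm : ∀ a, h₂ (f a) = f' (h₁ a))
    (isb₁ : IsBaseChange S h₁) (isb₂ : IsBaseChange S h₂)
    (K : Submodule R M₁) (hK : K = LinearMap.ker f)
    (K' : Submodule S N₁) (hK' : K' = LinearMap.ker f')
    (h₀ : ↥K →ₗ[R] ↥K')
    (hh : ∀ a, (h₀ a : N₁) = h₁ a) :
    IsBaseChange S h₀ := by
  refine IsBaseChange.of_left_exact S h₀ h₁ h₂ (f := K.subtype) (g := f)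
    (f' := K'.subtype) (g' := f')
    (LinearMap.ext fun a => (hh a).symm) (LinearMap.ext comm) isb₁ isb₂ ?_
    (Submodule.injective_subtype _) ?_ (Submodule.injective_subtype _)
  · rw [LinearMap.exact_iff, Submodule.range_subtype, hK]
  · rw [LinearMap.exact_iff, Submodule.range_subtype, hK']

end General

variable {A : Type u} [CommRing A] {n : ℕ}

/-- the trivial relations. -/
def kvec (x : Fin n → A) (ij : Fin n × Fin n) : Fin n → A :=
  Pi.single ij.2 (x ij.1) - Pi.single ij.1 (x ij.2)

theorem koszulRel_eq (x : Fin n → A) :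
    koszulRel x = LinearMap.range (Fintype.linearCombination A (kvec x)) := by
  rw [Fintype.range_linearCombination]
  unfold koszulRel
  congr 1
  ext v
  constructor
  · rintro ⟨i, j, rfl⟩
    exact ⟨(i, j), rfl⟩
  · rintro ⟨⟨i, j⟩, rfl⟩
    exact ⟨i, j, rfl⟩

/-- the map `A^n → A`. -/
noncomputable def phi (x : Fin n → A) : (Fin n → A) →ₗ[A] A := Fintype.linearCombination A x

theorem phi_apply (x a : Fin n → A) : phi x a = ∑ i, a i * x i := by
  simp [phi, Fintype.linearCombination_apply]

theorem ker_phi (x : Fin n → A) : LinearMap.ker (phi x) = relSub x := by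
  ext a
  rw [LinearMap.mem_ker, phi_apply, mem_relSub]

/-- the induced map on the quotient by the trivial relations. -/
noncomputable def phibar (x : Fin n → A) : ((Fin n → A) ⧸ koszulRel x) →ₗ[A] A :=
  (koszulRel x).liftQ (phi x) (by rw [ker_phi]; exact koszulRel_le_relSub x)

theorem phibar_mk (x a : Fin n → A) : phibar x (Submodule.Quotient.mk a) = phi x a := rfl

/-- relations modulo trivial relations. -/
noncomputable def Hm (x : Fin n → A) : Submodule A ((Fin n → A) ⧸ koszulRel x) :=
  LinearMap.ker (phibar x)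

section BaseChange

variable {S : Type v} [CommRing S] [Algebra A S] (x : Fin n → A)

/-- the base change map on free modules. -/
def bc (A : Type u) [CommRing A] (S : Type v) [CommRing S] [Algebra A S] (ι : Type*) :
    (ι → A) →ₗ[A] (ι → S) := (Algebra.linearMap A S).compLeft ι

theorem bc_apply (ι : Type*) (a : ι → A) (i : ι) : bc A S ι a i = algebraMap A S (a i) := rfl

theorem isBaseChange_bc (ι : Type*) [Finite ι] : IsBaseChange S (bc A S ι) :=
  IsBaseChange.finitePow ι (IsBaseChange.linearMap A S)

theorem phi_bc (a : Fin n → A) :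
    phi (fun i => algebraMap A S (x i)) (bc A S (Fin n) a) = algebraMap A S (phi x a) := by
  rw [phi_apply, phi_apply, map_sum]
  simp [bc_apply]

theorem kappa_bc (a : Fin n × Fin n → A) :
    Fintype.linearCombination S (kvec (fun i => algebraMap A S (x i))) (bc A S _ a) =
      bc A S (Fin n) (Fintype.linearCombination A (kvec x) a) := by
  rw [Fintype.linearCombination_apply, Fintype.linearCombination_apply]
  ext k
  rw [bc_apply, Finset.sum_apply, Finset.sum_apply, map_sum]
  refine Finset.sum_congr rfl fun ij _ => ?_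
  simp only [Pi.smul_apply, smul_eq_mul, map_mul, bc_apply, kvec, Pi.sub_apply, map_sub]
  congr 2
  · simp only [Pi.single_apply]; split_ifs <;> simp
  · simp only [Pi.single_apply]; split_ifs <;> simp

/-- the base change map on the quotient by the trivial relations. -/
noncomputable def hq : ((Fin n → A) ⧸ koszulRel x) →ₗ[A]
    ((Fin n → S) ⧸ koszulRel (fun i => algebraMap A S (x i))) :=
  (koszulRel x).liftQ ((Submodule.mkQ (koszulRel (fun i => algebraMap A S (x i)))).restrictScalars A ∘ₗ
    bc A S (Fin n)) (by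
      intro a ha
      rw [koszulRel_eq] at ha
      obtain ⟨b, rfl⟩ := ha
      rw [LinearMap.mem_ker]
      show Submodule.mkQ (koszulRel (fun i => algebraMap A S (x i)))
        (bc A S (Fin n) (Fintype.linearCombination A (kvec x) b)) = 0
      rw [← kappa_bc, Submodule.mkQ_apply, Submodule.Quotient.mk_eq_zero, koszulRel_eq]
      exact ⟨_, rfl⟩)

theorem hq_mk (a : Fin n → A) : hq (S := S) x (Submodule.Quotient.mk a) =
    Submodule.Quotient.mk (bc A S (Fin n) a) := rfl

theorem isBaseChange_hq : IsBaseChange S (hq (S := S) x) :=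
  isBaseChange_quot (bc A S (Fin n × Fin n)) (bc A S (Fin n))
    (Fintype.linearCombination A (kvec x))
    (Fintype.linearCombination S (kvec (fun i => algebraMap A S (x i))))
    (fun a => (kappa_bc x a).symm) (isBaseChange_bc _) (isBaseChange_bc _) _ (koszulRel_eq _) _
    (koszulRel_eq _) (hq x) (hq_mk x)

theorem phibar_hq (a : (Fin n → A) ⧸ koszulRel x) :
    phibar (fun i => algebraMap A S (x i)) (hq (S := S) x a) = algebraMap A S (phibar x a) := by
  obtain ⟨a, rfl⟩ := Submodule.Quotient.mk_surjective _ a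
  rw [hq_mk, phibar_mk, phibar_mk, phi_bc]

theorem hq_mem (a : (Fin n → A) ⧸ koszulRel x) (ha : a ∈ Hm x) :
    hq (S := S) x a ∈ Hm (fun i => algebraMap A S (x i)) := by
  have h : phibar x a = 0 := ha
  show phibar (fun i => algebraMap A S (x i)) (hq (S := S) x a) = 0
  rw [phibar_hq, h, map_zero]

/-- the base change map on `H`. -/
noncomputable def hH : ↥(Hm x) →ₗ[A] ↥(Hm (fun i => algebraMap A S (x i))) where
  toFun a := ⟨hq (S := S) x a, hq_mem x a a.2⟩
  map_add' a b := Subtype.ext (map_add (hq (S := S) x) (a : (Fin n → A) ⧸ koszulRel x) b)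
  map_smul' r a := Subtype.ext (map_smul (hq (S := S) x) r (a : (Fin n → A) ⧸ koszulRel x))

theorem hH_coe (a : ↥(Hm x)) : ((hH (S := S) x a : ↥(Hm (fun i => algebraMap A S (x i)))) :
    (Fin n → S) ⧸ koszulRel (fun i => algebraMap A S (x i))) = hq (S := S) x a := rfl

theorem isBaseChange_H [Module.Flat A S] : IsBaseChange S (hH (S := S) x) := by
  have h1 := isBaseChange_hq (S := S) x
  have h2 := isBaseChange_sub (hq (S := S) x) (Algebra.linearMap A S) (phibar x)
    (phibar (fun i => algebraMap A S (x i))) (fun a => (phibar_hq x a).symm)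
    h1 (IsBaseChange.linearMap A S)
  exact h2 (Hm x) rfl (Hm (fun i => algebraMap A S (x i))) rfl (hH x) (hH_coe x)

theorem spanFinrank_top_eq {R : Type*} [CommRing R] {M N : Type*} [AddCommGroup M] [AddCommGroup N]
    [Module R M] [Module R N] (e : M ≃ₗ[R] N) :
    (⊤ : Submodule R N).spanFinrank = (⊤ : Submodule R M).spanFinrank := by
  have h2 := Submodule.spanFinrank_map_eq_of_injective (e : M →ₗ[R] N) e.injective
    (p := (⊤ : Submodule R M))
  rwa [Submodule.map_top, LinearEquiv.range] at h2

/-- The minimal number of generators of `H` is unchanged by flat local base change. -/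
theorem spanFinrank_H [IsLocalRing A] [IsNoetherianRing A] [IsLocalRing S]
    [IsLocalHom (algebraMap A S)] [Module.Flat A S] :
    (Hm (fun i => algebraMap A S (x i))).spanFinrank = (Hm x).spanFinrank := by
  have h1 := Groth.Agent.CurvesB.FlatRegular.spanFinrank_top_tensor A S (Hm x)
    (IsNoetherian.noetherian _)
  rw [← h1, ← Submodule.spanFinrank_top (Hm (fun i => algebraMap A S (x i)))]
  exact spanFinrank_top_eq (isBaseChange_H (S := S) x).equiv

end BaseChange

/-- generation of relations modulo trivial relations. -/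
theorem spanFinrank_H_le_iff [IsNoetherianRing A] (x : Fin n → A) (k : ℕ) :
    (Hm x).spanFinrank ≤ k ↔ ∃ z : Fin k → (Fin n → A),
      Submodule.span A (Set.range z) ⊔ koszulRel x = relSub x := by
  have hmap : (relSub x).map (koszulRel x).mkQ = Hm x := by
    ext a
    obtain ⟨a, rfl⟩ := Submodule.Quotient.mk_surjective _ a
    constructor
    · rintro ⟨b, hb, hab⟩
      rw [← hab]
      show phi x b = 0
      rw [phi_apply]
      exact hb
    · intro h
      have h' : phi x a = 0 := h
      exact ⟨a, by rw [← ker_phi]; exact h', rfl⟩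
  constructor
  · intro h
    obtain ⟨s, hs, hs'⟩ := Submodule.FG.exists_span_finset_card_eq_spanFinrank
      (IsNoetherian.noetherian (Hm x))
    have h1 : ∃ w : Fin k → ((Fin n → A) ⧸ koszulRel x), Submodule.span A (Set.range w) = Hm x := by
      refine ⟨fun i => if hi : (i : ℕ) < s.card then (s.equivFin.symm ⟨i, hi⟩ : _) else 0, ?_⟩
      rw [← hs']
      apply le_antisymm
      · rw [Submodule.span_le]
        rintro _ ⟨i, rfl⟩
        dsimp only
        split_ifs with hi
        · exact Submodule.subset_span (s.equivFin.symm ⟨i, hi⟩).2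
        · exact Submodule.zero_mem _
      · rw [Submodule.span_le]
        intro y hy
        refine Submodule.subset_span ⟨⟨s.equivFin ⟨y, hy⟩, ?_⟩, ?_⟩
        · have := (s.equivFin ⟨y, hy⟩).2
          omega
        · simp
    obtain ⟨w, hw⟩ := h1
    choose z hz using fun i => Submodule.Quotient.mk_surjective (koszulRel x) (w i)
    refine ⟨z, ?_⟩
    have h2 : (Submodule.span A (Set.range z) ⊔ koszulRel x).map (koszulRel x).mkQ =
        (relSub x).map (koszulRel x).mkQ := by
      rw [hmap, ← hw, Submodule.map_sup, Submodule.map_span, ← Set.range_comp,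
        (Submodule.mkQ_map_self (koszulRel x)), sup_bot_eq]
      congr 2
      ext i
      exact hz i
    have h3 := congrArg (Submodule.comap (koszulRel x).mkQ) h2
    rw [Submodule.comap_map_mkQ, Submodule.comap_map_mkQ, sup_eq_right.mpr le_sup_right,
      sup_eq_right.mpr (koszulRel_le_relSub x)] at h3
    exact h3
  · rintro ⟨z, hz⟩
    have h2 : Submodule.span A (Set.range ((koszulRel x).mkQ ∘ z)) = Hm x := by
      rw [← hmap, ← hz, Submodule.map_sup, Submodule.map_span, ← Set.range_comp,
        (Submodule.mkQ_map_self (koszulRel x)), sup_bot_eq]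
    rw [← h2]
    refine (Submodule.spanFinrank_span_le_ncard_of_finite (Set.finite_range _)).trans ?_
    rw [← Set.image_univ]
    refine (Set.ncard_image_le Set.finite_univ).trans ?_
    simp [Set.ncard_univ]

end K138.KosH
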