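import Groth.Agent.Flat2H.RegDescent
import Groth.Agent.Ega4dB.RegLocal
import Groth.Agent.Divis.RegSpread
import Mathlib.AlgebraicGeometry.Morphisms.Flat
import Mathlib.AlgebraicGeometry.Noetherian
import Mathlib.RingTheory.Regular.Flat

/-!
# Weak regularity of sequences of sections, on stalks

* `isWeaklyRegular_iff_stalk`: on an affine open, weak regularity can be read off on the stalks.
* `stalkMap_iff`: invariance under flat stalk maps.
* `isOpen_stReg`: openness of the locus of weak regularity on a locally Noetherian scheme.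
-/

set_option autoImplicit false
universe u
open CategoryTheory AlgebraicGeometry RingTheory.Sequence

namespace K138.StReg

variable {X : Scheme.{u}}

/-- The germs of the sequence `rs` of sections over `U` form a weakly regular sequence at `x`. -/
def StReg {U : X.Opens} (rs : List Γ(X, U)) (x : X) (hx : x ∈ U) : Prop :=
  IsWeaklyRegular (X.presheaf.stalk x) (rs.map (fun f => X.presheaf.germ U x hx f))

theorem stReg_res {U V : X.Opens} (h : V ≤ U) (rs : List Γ(X, U)) (x : X) (hx : x ∈ V) :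
    StReg (rs.map (fun f => (X.presheaf.map (homOfLE h).op).hom f)) x hx ↔
      StReg rs x (h hx) := by
  unfold StReg
  rw [List.map_map]
  have : ((fun f => X.presheaf.germ V x hx f) ∘ fun f => (X.presheaf.map (homOfLE h).op).hom f) =
      fun f => X.presheaf.germ U x (h hx) f := by
    funext f
    exact X.presheaf.germ_res_apply (homOfLE h) x hx f
  rw [this]

/-- On an affine open, weak regularity can be read off on the stalks. -/
theorem isWeaklyRegular_iff_stalk {U : X.Opens} (hU : IsAffineOpen U) (rs : List Γ(X, U)) :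
    IsWeaklyRegular Γ(X, U) rs ↔ ∀ (x : X) (hx : x ∈ U), StReg rs x hx := by
  constructor
  · intro h x hx
    let := X.presheaf.algebra_section_stalk (⟨x, hx⟩ : U)
    have hloc : IsLocalization.AtPrime (X.presheaf.stalk x) (hU.primeIdealOf ⟨x, hx⟩).asIdeal :=
      hU.isLocalization_stalk ⟨x, hx⟩
    have hfl : Module.Flat Γ(X, U) (X.presheaf.stalk x) :=
      IsLocalization.flat _ (hU.primeIdealOf ⟨x, hx⟩).asIdeal.primeCompl
    exact h.of_flat (S := X.presheaf.stalk x)
  · intro h
    apply Groth.Agent.Ega4dB.RegLocal.isWeaklyRegular_of_localized_maximal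
    intro p hp
    have hx : hU.fromSpec ⟨p, hp.isPrime⟩ ∈ U := by
      have := hU.range_fromSpec
      exact this.le ⟨_, rfl⟩
    have h1 : hU.primeIdealOf ⟨hU.fromSpec ⟨p, hp.isPrime⟩, hx⟩ = ⟨p, hp.isPrime⟩ := by
      apply hU.fromSpec.isOpenEmbedding.injective
      exact hU.fromSpec_primeIdealOf ⟨hU.fromSpec ⟨p, hp.isPrime⟩, hx⟩
    have h2 := h _ hx
    let := X.presheaf.algebra_section_stalk (⟨hU.fromSpec ⟨p, hp.isPrime⟩, hx⟩ : U)
    have hloc : IsLocalization.AtPrime (X.presheaf.stalk (hU.fromSpec ⟨p, hp.isPrime⟩))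
      (hU.primeIdealOf ⟨hU.fromSpec ⟨p, hp.isPrime⟩, hx⟩).asIdeal :=
        hU.isLocalization_stalk ⟨hU.fromSpec ⟨p, hp.isPrime⟩, hx⟩
    rw [h1] at hloc
    have h3 : IsWeaklyRegular (X.presheaf.stalk (hU.fromSpec ⟨p, hp.isPrime⟩)) rs :=
      (isWeaklyRegular_map_algebraMap_iff (X.presheaf.stalk (hU.fromSpec ⟨p, hp.isPrime⟩))
        (X.presheaf.stalk (hU.fromSpec ⟨p, hp.isPrime⟩)) rs).mp h2
    have e := IsLocalizedModule.iso p.primeCompl
      (Algebra.linearMap Γ(X, U) (X.presheaf.stalk (hU.fromSpec ⟨p, hp.isPrime⟩)))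
    exact (e.isWeaklyRegular_congr rs).mpr h3

/-- Invariance under flat local homomorphisms. -/
theorem ringHom_iff {A B : Type u} [CommRing A] [CommRing B] [IsLocalRing A] [IsLocalRing B]
    (φ : A →+* B) [IsLocalHom φ] (hφ : φ.Flat) (rs : List A) :
    IsWeaklyRegular B (rs.map φ) ↔ IsWeaklyRegular A rs := by
  algebraize [φ]
  have hl : IsLocalHom (algebraMap A B) := ‹IsLocalHom φ›
  have hff : Module.FaithfullyFlat A B := Module.FaithfullyFlat.of_flat_of_isLocalHom
  exact ⟨fun h => Groth.Agent.Flat2H.RegDescent.isWeaklyRegular_of_faithfullyFlat rs h,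
    fun h => h.of_flat (S := B)⟩

/-- Invariance under flat stalk maps. -/
theorem stReg_app_iff {X' : Scheme.{u}} (f : X' ⟶ X) [Flat f] {U : X.Opens} (rs : List Γ(X, U))
    (x : X') (hx : f x ∈ U) :
    StReg (U := f ⁻¹ᵁ U) (rs.map (fun s => (f.app U).hom s)) x hx ↔ StReg rs (f x) hx := by
  unfold StReg
  rw [← ringHom_iff (f.stalkMap x).hom (Flat.stalkMap f x), List.map_map, List.map_map]
  have : ((fun s => X'.presheaf.germ (f ⁻¹ᵁ U) x hx s) ∘ fun s => (f.app U).hom s) =
      ((f.stalkMap x).hom ∘ fun s => X.presheaf.germ U (f x) hx s) := by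
    funext s
    exact (Scheme.Hom.germ_stalkMap_apply f U x hx s).symm
  rw [this]

/-- Spreading out weak regularity on a locally Noetherian scheme. -/
theorem exists_nhd [IsLocallyNoetherian X] {U : X.Opens} (hU : IsAffineOpen U) (rs : List Γ(X, U))
    (x : X) (hx : x ∈ U) (h : StReg rs x hx) :
    ∃ V : X.Opens, x ∈ V ∧ ∀ (x' : X) (hx' : x' ∈ U), x' ∈ V → StReg rs x' hx' := by
  have hN : IsNoetherianRing Γ(X, U) := IsLocallyNoetherian.component_noetherian ⟨U, hU⟩
  let := X.presheaf.algebra_section_stalk (⟨x, hx⟩ : U)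
  have hloc : IsLocalization.AtPrime (X.presheaf.stalk x) (hU.primeIdealOf ⟨x, hx⟩).asIdeal :=
    hU.isLocalization_stalk ⟨x, hx⟩
  obtain ⟨f, hf, H⟩ := Groth.Agent.Divis.RegSpread.exists_isWeaklyRegular_of_atPrime'.{u, u, u}
    (hU.primeIdealOf ⟨x, hx⟩).asIdeal (X.presheaf.stalk x) rs h
  refine ⟨X.basicOpen f, ?_, ?_⟩
  · rw [X.mem_basicOpen f x hx]
    exact (IsLocalization.AtPrime.isUnit_to_map_iff (X.presheaf.stalk x)
      (hU.primeIdealOf ⟨x, hx⟩).asIdeal f).mpr hf
  · intro x' hx' hxf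
    rw [X.mem_basicOpen f x' hx'] at hxf
    let := X.presheaf.algebra_section_stalk (⟨x', hx'⟩ : U)
    have hloc : IsLocalization.AtPrime (X.presheaf.stalk x') (hU.primeIdealOf ⟨x', hx'⟩).asIdeal :=
      hU.isLocalization_stalk ⟨x', hx'⟩
    have hfl : Module.Flat Γ(X, U) (X.presheaf.stalk x') :=
      IsLocalization.flat _ (hU.primeIdealOf ⟨x', hx'⟩).asIdeal.primeCompl
    exact H (X.presheaf.stalk x') hxf

/-- Openness of the locus of weak regularity of a sequence of global sections. -/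
theorem isOpen_stReg [IsLocallyNoetherian X] (rs : List Γ(X, ⊤)) :
    IsOpen {x : X | StReg rs x trivial} := by
  rw [isOpen_iff_forall_mem_open]
  intro x hx
  obtain ⟨U, hU, hxU, -⟩ := exists_isAffineOpen_mem_and_subset (x := x) (U := ⊤) trivial
  have h1 := (stReg_res (le_top : U ≤ ⊤) rs x hxU).mpr hx
  obtain ⟨V, hxV, hV⟩ := exists_nhd hU _ x hxU h1
  refine ⟨((U ⊓ V : X.Opens) : Set X), ?_, (U ⊓ V).2, ⟨hxU, hxV⟩⟩
  rintro x' ⟨h2, h3⟩
  exact (stReg_res (le_top : U ≤ ⊤) rs x' h2).mp (hV x' h2 h3)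

/-- Weak regularity on all affine opens, for a sequence of global sections pulled back along a flat
morphism. -/
theorem forall_affine_iff {X' : Scheme.{u}} (f : X' ⟶ X) [Flat f] (rs : List Γ(X, ⊤)) :
    (∀ U : X'.affineOpens, IsWeaklyRegular Γ(X', U.1)
      (rs.map (fun s => (X'.presheaf.map (homOfLE (le_top : U.1 ≤ ⊤)).op).hom
        (f.appTop.hom s)))) ↔
      ∀ x : X', StReg rs (f x) trivial := by
  have key : ∀ (U : X'.Opens) (x : X') (hx : x ∈ U),
      StReg (rs.map (fun s => (X'.presheaf.map (homOfLE (le_top : U ≤ ⊤)).op).hom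
        (f.appTop.hom s))) x hx ↔ StReg rs (f x) trivial := by
    intro U x hx
    unfold StReg
    rw [← ringHom_iff (f.stalkMap x).hom (Flat.stalkMap f x), List.map_map, List.map_map]
    have : ((fun s => X'.presheaf.germ U x hx s) ∘ fun s =>
        (X'.presheaf.map (homOfLE (le_top : U ≤ ⊤)).op).hom (f.appTop.hom s)) =
        ((f.stalkMap x).hom ∘ fun s => X.presheaf.germ ⊤ (f x) trivial s) := by
      funext s
      have e1 := X'.presheaf.germ_res_apply (homOfLE (le_top : U ≤ ⊤)) x hx (f.appTop.hom s)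
      have e2 := Scheme.Hom.germ_stalkMap_apply f ⊤ x trivial s
      exact e1.trans e2.symm
    rw [this]
  constructor
  · intro h x
    obtain ⟨U, hU, hxU, -⟩ := exists_isAffineOpen_mem_and_subset (x := x) (U := ⊤) trivial
    exact (key U x hxU).mp ((isWeaklyRegular_iff_stalk hU _).mp (h ⟨U, hU⟩) x hxU)
  · intro h U
    rw [isWeaklyRegular_iff_stalk U.2]
    intro x hx
    exact (key U.1 x hx).mpr (h x)

end K138.StReg
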