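import Groth.Agent.CInt.K138.TransAlg
import Groth.Agent.CInt.K138.StReg
import Mathlib.RingTheory.Flat.Localization
import Mathlib.AlgebraicGeometry.Morphisms.Flat
import Mathlib.AlgebraicGeometry.Morphisms.FinitePresentation

/-!
# Transversally regular sequences of sections, on stalks
-/

set_option autoImplicit false
universe u
open CategoryTheory AlgebraicGeometry RingTheory.Sequence
open K138.TransAlg

namespace K138.TransSch

variable {X S : Scheme.{u}}

/-- `l` is transversally regular for the ring map `φ`. -/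
def TransLoc {R C : Type u} [CommRing R] [CommRing C] (φ : R →+* C) (l : List C) : Prop :=
  IsWeaklyRegular C l ∧ ∀ i, ((Ideal.Quotient.mk (Ideal.ofList (l.take i))).comp φ).Flat

/-- The sequence `rs` of global sections is transversally regular relative to `S` at `x`. -/
def TransAt (g : X ⟶ S) (rs : List Γ(X, ⊤)) (x : X) : Prop :=
  TransLoc (g.stalkMap x).hom (rs.map (fun f => X.presheaf.germ ⊤ x trivial f))

theorem flat_mk_comp_congr {R C : Type u} [CommRing R] [CommRing C] (φ : R →+* C) {I J : Ideal C}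
    (h : I = J) : ((Ideal.Quotient.mk I).comp φ).Flat ↔ ((Ideal.Quotient.mk J).comp φ).Flat := by
  subst h
  exact Iff.rfl

theorem flat_mk_bot_comp {R C : Type u} [CommRing R] [CommRing C] (φ : R →+* C) :
    ((Ideal.Quotient.mk (⊥ : Ideal C)).comp φ).Flat ↔ φ.Flat := by
  have hb : Function.Bijective (Ideal.Quotient.mk (⊥ : Ideal C)) :=
    ⟨by
      rw [injective_iff_map_eq_zero]
      intro a ha
      rwa [Ideal.Quotient.eq_zero_iff_mem, Ideal.mem_bot] at ha, Ideal.Quotient.mk_surjective⟩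
  constructor
  · intro h
    have h0 : ((RingEquiv.ofBijective (Ideal.Quotient.mk (⊥ : Ideal C)) hb).symm :
        (C ⧸ (⊥ : Ideal C)) →+* C).Flat := RingHom.Flat.of_bijective
      (RingEquiv.ofBijective (Ideal.Quotient.mk (⊥ : Ideal C)) hb).symm.bijective
    have h1 := RingHom.Flat.comp h h0
    have h2 : ((RingEquiv.ofBijective (Ideal.Quotient.mk (⊥ : Ideal C)) hb).symm :
        (C ⧸ (⊥ : Ideal C)) →+* C).comp ((Ideal.Quotient.mk (⊥ : Ideal C)).comp φ) = φ := by
      ext x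
      exact (RingEquiv.ofBijective (Ideal.Quotient.mk (⊥ : Ideal C)) hb).symm_apply_apply (φ x)
    rw [← h2]
    exact h1
  · intro h
    exact RingHom.Flat.comp h (RingHom.Flat.of_bijective hb)

theorem transLoc_nil_iff {R C : Type u} [CommRing R] [CommRing C] (φ : R →+* C) :
    TransLoc φ ([] : List C) ↔ φ.Flat := by
  constructor
  · intro h
    have := h.2 0
    rwa [flat_mk_comp_congr φ (I := Ideal.ofList (([] : List C).take 0)) (J := ⊥) (by simp),
      flat_mk_bot_comp] at this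
  · intro h
    refine ⟨.nil C _, fun i => ?_⟩
    rwa [flat_mk_comp_congr φ (I := Ideal.ofList (([] : List C).take i)) (J := ⊥) (by simp),
      flat_mk_bot_comp]

theorem TransLoc.flat {R C : Type u} [CommRing R] [CommRing C] {φ : R →+* C} {l : List C}
    (h : TransLoc φ l) : φ.Flat := by
  have := h.2 0
  rwa [flat_mk_comp_congr φ (I := Ideal.ofList (l.take 0)) (J := ⊥) (by simp),
    flat_mk_bot_comp] at this

theorem transAt_nil_iff (g : X ⟶ S) (x : X) :
    TransAt g [] x ↔ (g.stalkMap x).hom.Flat :=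
  transLoc_nil_iff _

/-- The restriction of a sequence of global sections to an open. -/
def res (U : X.Opens) (rs : List Γ(X, ⊤)) : List Γ(X, U) :=
  rs.map (fun f => (X.presheaf.map (homOfLE (le_top : U ≤ ⊤)).op).hom f)

theorem transAt_iff (g : X ⟶ S) (rs : List Γ(X, ⊤)) {U : X.Opens} (hU : IsAffineOpen U)
    {V : S.Opens} (hV : IsAffineOpen V) (e : U ≤ g ⁻¹ᵁ V) (x : X) (hx : x ∈ U) :
    TransAt g rs x ↔ @TA Γ(S, V) Γ(X, U) _ _ (g.appLE V U e).hom.toAlgebra
      (hU.primeIdealOf ⟨x, hx⟩).asIdeal.primeCompl (res U rs) := by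
  let _ : Algebra Γ(S, V) Γ(X, U) := (g.appLE V U e).hom.toAlgebra
  let _ : Algebra Γ(X, U) (X.presheaf.stalk x) := X.presheaf.algebra_section_stalk (⟨x, hx⟩ : U)
  let _ : Algebra Γ(S, V) (S.presheaf.stalk (g x)) :=
    S.presheaf.algebra_section_stalk (⟨g x, e hx⟩ : V)
  let _ : Algebra Γ(S, V) (X.presheaf.stalk x) :=
    ((algebraMap Γ(X, U) (X.presheaf.stalk x)).comp (algebraMap Γ(S, V) Γ(X, U))).toAlgebra
  let _ : Algebra (S.presheaf.stalk (g x)) (X.presheaf.stalk x) := (g.stalkMap x).hom.toAlgebra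
  have t1 : IsScalarTower Γ(S, V) Γ(X, U) (X.presheaf.stalk x) := IsScalarTower.of_algebraMap_eq' rfl
  have t2 : IsScalarTower Γ(S, V) (S.presheaf.stalk (g x)) (X.presheaf.stalk x) := by
    refine IsScalarTower.of_algebraMap_eq' ?_
    have h1 : S.presheaf.germ V (g x) (e hx) ≫ g.stalkMap x =
        g.appLE V U e ≫ X.presheaf.germ U x hx := by
      rw [Scheme.Hom.germ_stalkMap, Scheme.Hom.appLE, Category.assoc, X.presheaf.germ_res]
    exact congrArg CommRingCat.Hom.hom h1.symm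
  have hloc : IsLocalization.AtPrime (X.presheaf.stalk x) (hU.primeIdealOf ⟨x, hx⟩).asIdeal :=
    hU.isLocalization_stalk ⟨x, hx⟩
  have hloc' : IsLocalization.AtPrime (S.presheaf.stalk (g x))
      (hV.primeIdealOf ⟨g x, e hx⟩).asIdeal := hV.isLocalization_stalk ⟨g x, e hx⟩
  rw [ta_iff (X.presheaf.stalk x) (hU.primeIdealOf ⟨x, hx⟩).asIdeal.primeCompl]
  have hmap : (res U rs).map (algebraMap Γ(X, U) (X.presheaf.stalk x)) =
      rs.map (fun f => X.presheaf.germ ⊤ x trivial f) := by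
    unfold res
    rw [List.map_map]
    refine List.map_congr_left fun f _ => ?_
    exact X.presheaf.germ_res_apply (homOfLE (le_top : U ≤ ⊤)) x hx f
  unfold TransAt
  rw [← hmap]
  unfold TransLoc
  rw [isWeaklyRegular_map_algebraMap_iff]
  refine and_congr_right fun _ => forall_congr' fun i => ?_
  have hI : (Ideal.ofList ((res U rs).take i)).map (algebraMap Γ(X, U) (X.presheaf.stalk x)) =
      Ideal.ofList (((res U rs).map (algebraMap Γ(X, U) (X.presheaf.stalk x))).take i) := by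
    rw [Ideal.map_ofList, List.map_take]
  rw [← flat_mk_comp_congr _ hI]
  have h1 : ((Ideal.Quotient.mk ((Ideal.ofList ((res U rs).take i)).map
      (algebraMap Γ(X, U) (X.presheaf.stalk x)))).comp (g.stalkMap x).hom).Flat ↔
      Module.Flat (S.presheaf.stalk (g x)) (X.presheaf.stalk x ⧸
        ((Ideal.ofList ((res U rs).take i)).map (algebraMap Γ(X, U) (X.presheaf.stalk x)))) := by
    rw [← RingHom.flat_algebraMap_iff]
    exact Iff.rfl
  rw [h1]
  exact Module.flat_iff_of_isLocalization (S.presheaf.stalk (g x))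
    (hV.primeIdealOf ⟨g x, e hx⟩).asIdeal.primeCompl _

/-- **Local-global.** -/
theorem isTransRegularSeq_iff (g : X ⟶ S) (rs : List Γ(X, ⊤)) {U : X.Opens} (hU : IsAffineOpen U)
    {V : S.Opens} (hV : IsAffineOpen V) (e : U ≤ g ⁻¹ᵁ V) :
    @RegImm.IsTransRegularSeq Γ(S, V) Γ(X, U) _ _ (g.appLE V U e).hom.toAlgebra (res U rs) ↔
      ∀ x ∈ U, TransAt g rs x := by
  let _ : Algebra Γ(S, V) Γ(X, U) := (g.appLE V U e).hom.toAlgebra
  rw [TransAlg.isTransRegularSeq_iff]
  constructor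
  · intro h x hx
    rw [transAt_iff g rs hU hV e x hx]
    exact h _
  · intro h q hq
    have hx : hU.fromSpec ⟨q, hq⟩ ∈ U := by
      have := hU.range_fromSpec
      exact this.le ⟨_, rfl⟩
    have h1 : hU.primeIdealOf ⟨hU.fromSpec ⟨q, hq⟩, hx⟩ = ⟨q, hq⟩ := by
      apply hU.fromSpec.isOpenEmbedding.injective
      exact hU.fromSpec_primeIdealOf ⟨hU.fromSpec ⟨q, hq⟩, hx⟩
    have h2 := (transAt_iff g rs hU hV e _ hx).mp (h _ hx)
    rwa [h1] at h2

/-- The condition of the statement in terms of points. -/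
theorem forall_affine_iff (g : X ⟶ S) (rs : List Γ(X, ⊤)) :
    (∀ (U : X.affineOpens) (V : S.affineOpens) (e : U.1 ≤ g ⁻¹ᵁ V.1),
      @RegImm.IsTransRegularSeq Γ(S, V.1) Γ(X, U.1) _ _ (g.appLE V.1 U.1 e).hom.toAlgebra
        (res U.1 rs)) ↔ ∀ x, TransAt g rs x := by
  constructor
  · intro h x
    obtain ⟨V, hV, hxV, -⟩ := exists_isAffineOpen_mem_and_subset (x := g x) (U := ⊤) trivial
    obtain ⟨U, hU, hxU, hUV⟩ := exists_isAffineOpen_mem_and_subset (x := x) (U := g ⁻¹ᵁ V) hxV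
    exact (isTransRegularSeq_iff g rs hU hV hUV).mp (h ⟨U, hU⟩ ⟨V, hV⟩ hUV) x hxU
  · intro h U V e
    exact (isTransRegularSeq_iff g rs U.2 V.2 e).mpr fun x _ => h x

/-- **Openness** of transversal regularity. -/
theorem isOpen_transAt (g : X ⟶ S) [LocallyOfFinitePresentation g] (rs : List Γ(X, ⊤)) :
    IsOpen {x | TransAt g rs x} := by
  rw [isOpen_iff_forall_mem_open]
  intro x hx
  obtain ⟨V, hV, hxV, -⟩ := exists_isAffineOpen_mem_and_subset (x := g x) (U := ⊤) trivial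
  obtain ⟨U, hU, hxU, hUV⟩ := exists_isAffineOpen_mem_and_subset (x := x) (U := g ⁻¹ᵁ V) hxV
  let _ : Algebra Γ(S, V) Γ(X, U) := (g.appLE V U hUV).hom.toAlgebra
  have hfp : Algebra.FinitePresentation Γ(S, V) Γ(X, U) :=
    g.finitePresentation_appLE hV hU hUV
  have h1 := (transAt_iff g rs hU hV hUV x hxU).mp hx
  obtain ⟨f, hf, H⟩ := TransAlg.exists_notMem _ _ h1
  refine ⟨X.basicOpen f, ?_, (X.basicOpen f).2, ?_⟩
  · intro x' hx'
    have hx'U : x' ∈ U := X.basicOpen_le f hx'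
    have hx'' : x' ∈ X.basicOpen f := hx'
    rw [X.mem_basicOpen f x' hx'U] at hx''
    let := X.presheaf.algebra_section_stalk (⟨x', hx'U⟩ : U)
    have hloc : IsLocalization.AtPrime (X.presheaf.stalk x') (hU.primeIdealOf ⟨x', hx'U⟩).asIdeal :=
      hU.isLocalization_stalk ⟨x', hx'U⟩
    refine (transAt_iff g rs hU hV hUV x' hx'U).mpr (H _ ?_)
    exact (IsLocalization.AtPrime.isUnit_to_map_iff (X.presheaf.stalk x')
      (hU.primeIdealOf ⟨x', hx'U⟩).asIdeal f).mp hx''
  · show x ∈ X.basicOpen f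
    rw [X.mem_basicOpen f x hxU]
    let := X.presheaf.algebra_section_stalk (⟨x, hxU⟩ : U)
    have hloc : IsLocalization.AtPrime (X.presheaf.stalk x) (hU.primeIdealOf ⟨x, hxU⟩).asIdeal :=
      hU.isLocalization_stalk ⟨x, hxU⟩
    exact (IsLocalization.AtPrime.isUnit_to_map_iff (X.presheaf.stalk x)
      (hU.primeIdealOf ⟨x, hxU⟩).asIdeal f).mpr hf

section BC

variable {X' S' : Scheme.{u}} {g : X ⟶ S} {f : S' ⟶ S} {f' : X' ⟶ X} {g' : X' ⟶ S'}

/-- Affine charts of a cartesian square around a point. -/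
theorem exists_chart (H : IsPullback f' g' g f) (x' : X') :
    ∃ (V : S.Opens) (U : X.Opens) (V' : S'.Opens) (U' : X'.Opens) (_ : IsAffineOpen V)
      (_ : IsAffineOpen U) (_ : IsAffineOpen V') (_ : IsAffineOpen U')
      (e : U ≤ g ⁻¹ᵁ V) (e₁ : V' ≤ f ⁻¹ᵁ V) (e₂ : U' ≤ f' ⁻¹ᵁ U) (e₃ : U' ≤ g' ⁻¹ᵁ V'),
      x' ∈ U' ∧ IsPushout (g.appLE V U e) (f.appLE V V' e₁) (f'.appLE U U' e₂)
        (g'.appLE V' U' e₃) := by
  obtain ⟨V, hV, hxV, -⟩ := exists_isAffineOpen_mem_and_subset (x := g (f' x')) (U := ⊤) trivial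
  obtain ⟨U, hU, hxU, hUV⟩ := exists_isAffineOpen_mem_and_subset (x := f' x') (U := g ⁻¹ᵁ V) hxV
  have hw : g (f' x') = f (g' x') := by
    rw [← Scheme.Hom.comp_apply, H.w, Scheme.Hom.comp_apply]
  have hxV' : g' x' ∈ f ⁻¹ᵁ V := by
    show f (g' x') ∈ V
    rw [← hw]
    exact hxV
  obtain ⟨V', hV', hxV'', hVV⟩ := exists_isAffineOpen_mem_and_subset (x := g' x')
    (U := f ⁻¹ᵁ V) hxV'
  have h1 := isIso_pushoutSection_of_isAffineOpen H hVV hUV (UY := f' ⁻¹ᵁ U ⊓ g' ⁻¹ᵁ V') rfl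
    hV hV' hU
  rw [isIso_pushoutSection_iff] at h1
  have hU' : IsAffineOpen (f' ⁻¹ᵁ U ⊓ g' ⁻¹ᵁ V') := by
    have : IsAffine _ := hV
    have : IsAffine _ := hU
    have : IsAffine _ := hV'
    exact .of_isIso (Scheme.Hom.isPullback_resLE H hVV hUV rfl).isoPullback.hom
  exact ⟨V, U, V', _, hV, hU, hV', hU', hUV, hVV, inf_le_left, inf_le_right, ⟨hxU, hxV''⟩, h1⟩

theorem res_appTop (U : X.Opens) (U' : X'.Opens) (e : U' ≤ f' ⁻¹ᵁ U) (rs : List Γ(X, ⊤)) :
    res U' (rs.map (fun s => f'.appTop.hom s)) = (res U rs).map (fun s => (f'.appLE U U' e).hom s) := by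
  unfold res
  rw [List.map_map, List.map_map]
  refine List.map_congr_left fun s _ => ?_
  have h1 : X.presheaf.map (homOfLE (le_top : U ≤ ⊤)).op ≫ f'.appLE U U' e =
      f'.appTop ≫ X'.presheaf.map (homOfLE (le_top : U' ≤ ⊤)).op := by
    rw [Scheme.Hom.map_appLE]
    rfl
  exact (congrArg (fun φ => φ.hom s) h1).symm

/-- Transversal regularity is stable under base change. -/
theorem TransAt.baseChange (H : IsPullback f' g' g f) {rs : List Γ(X, ⊤)} {x' : X'}
    (h : TransAt g rs (f' x')) : TransAt g' (rs.map (fun s => f'.appTop.hom s)) x' := by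
  obtain ⟨V, U, V', U', hV, hU, hV', hU', e, e₁, e₂, e₃, hx', hP⟩ := exists_chart H x'
  rw [transAt_iff g rs hU hV e (f' x') (e₂ hx')] at h
  rw [transAt_iff g' _ hU' hV' e₃ x' hx', res_appTop U U' e₂]
  let _ : Algebra Γ(S, V) Γ(X, U) := (g.appLE V U e).hom.toAlgebra
  let _ : Algebra Γ(S, V) Γ(S', V') := (f.appLE V V' e₁).hom.toAlgebra
  let _ : Algebra Γ(X, U) Γ(X', U') := (f'.appLE U U' e₂).hom.toAlgebra
  let _ : Algebra Γ(S', V') Γ(X', U') := (g'.appLE V' U' e₃).hom.toAlgebra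
  let _ : Algebra Γ(S, V) Γ(X', U') :=
    ((f'.appLE U U' e₂).hom.comp (g.appLE V U e).hom).toAlgebra
  have t1 : IsScalarTower Γ(S, V) Γ(X, U) Γ(X', U') := IsScalarTower.of_algebraMap_eq' rfl
  have t2 : IsScalarTower Γ(S, V) Γ(S', V') Γ(X', U') := IsScalarTower.of_algebraMap_eq' <| by
    exact congrArg CommRingCat.Hom.hom hP.w
  have hpush : Algebra.IsPushout Γ(S, V) Γ(S', V') Γ(X, U) Γ(X', U') :=
    CommRingCat.isPushout_iff_isPushout.mp hP.flip
  exact TA.baseChange (A₁ := Γ(S, V)) (A := Γ(S', V')) (B₁ := Γ(X, U)) (B := Γ(X', U')) (by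
    intro t ht ht'
    refine ht ?_
    have h1 := IsAffineOpen.comap_primeIdealOf_appLE (f := f') U hU U' hU' e₂ hx'
    have h2 := congrArg PrimeSpectrum.asIdeal h1
    rw [← h2]
    exact ht') h

/-- Descent of transversal regularity. -/
theorem TransAt.descend (H : IsPullback f' g' g f) [LocallyOfFinitePresentation g]
    {rs : List Γ(X, ⊤)} {x' : X'} (hflat : (g.stalkMap (f' x')).hom.Flat)
    (h : TransAt g' (rs.map (fun s => f'.appTop.hom s)) x') :
    TransAt g rs (f' x') := by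
  obtain ⟨V, U, V', U', hV, hU, hV', hU', e, e₁, e₂, e₃, hx', hP⟩ := exists_chart H x'
  rw [transAt_iff g rs hU hV e (f' x') (e₂ hx')]
  rw [transAt_iff g' _ hU' hV' e₃ x' hx', res_appTop U U' e₂] at h
  have hflat2 : TransAt g [] (f' x') := (transAt_nil_iff g _).mpr hflat
  rw [transAt_iff g [] hU hV e (f' x') (e₂ hx')] at hflat2
  let _ : Algebra Γ(S, V) Γ(X, U) := (g.appLE V U e).hom.toAlgebra
  let _ : Algebra Γ(S, V) Γ(S', V') := (f.appLE V V' e₁).hom.toAlgebra
  let _ : Algebra Γ(X, U) Γ(X', U') := (f'.appLE U U' e₂).hom.toAlgebra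
  let _ : Algebra Γ(S', V') Γ(X', U') := (g'.appLE V' U' e₃).hom.toAlgebra
  let _ : Algebra Γ(S, V) Γ(X', U') :=
    ((f'.appLE U U' e₂).hom.comp (g.appLE V U e).hom).toAlgebra
  have t1 : IsScalarTower Γ(S, V) Γ(X, U) Γ(X', U') := IsScalarTower.of_algebraMap_eq' rfl
  have t2 : IsScalarTower Γ(S, V) Γ(S', V') Γ(X', U') := IsScalarTower.of_algebraMap_eq' <| by
    exact congrArg CommRingCat.Hom.hom hP.w
  have hpush : Algebra.IsPushout Γ(S, V) Γ(S', V') Γ(X, U) Γ(X', U') :=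
    CommRingCat.isPushout_iff_isPushout.mp hP.flip
  have hfp : Algebra.FinitePresentation Γ(S, V) Γ(X, U) :=
    g.finitePresentation_appLE hV hU e
  have h1 := IsAffineOpen.comap_primeIdealOf_appLE (f := f') U hU U' hU' e₂ hx'
  rw [← h1]
  rw [← h1] at hflat2
  exact TransAlg.descend (A₁ := Γ(S, V)) (A := Γ(S', V')) (B₁ := Γ(X, U)) (B := Γ(X', U'))
    _ _ hflat2.flat h

theorem map_comp_eq {X Y Z : Scheme.{u}} {p : X ⟶ Y} {q : Y ⟶ Z} {r : X ⟶ Z} (h : p ≫ q = r)
    (fs : List Γ(Z, ⊤)) :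
    (fs.map (fun f => q.appTop.hom f)).map (fun f => p.appTop.hom f) =
      fs.map (fun f => r.appTop.hom f) := by
  subst h
  rw [List.map_map]
  refine List.map_congr_left fun f _ => ?_
  rw [Scheme.Hom.comp_appTop]
  rfl

/-- Base change for sections coming from a third scheme. -/
theorem TransAt.baseChange_comp (H : IsPullback f' g' g f) {X₀ : Scheme.{u}} {q : X ⟶ X₀}
    {r : X' ⟶ X₀} (hr : f' ≫ q = r) {rs : List Γ(X₀, ⊤)} {x' : X'}
    (h : TransAt g (rs.map (fun s => q.appTop.hom s)) (f' x')) :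
    TransAt g' (rs.map (fun s => r.appTop.hom s)) x' := by
  rw [← map_comp_eq hr]
  exact h.baseChange H

/-- Descent for sections coming from a third scheme. -/
theorem TransAt.descend_comp (H : IsPullback f' g' g f) (hg : LocallyOfFinitePresentation g)
    {X₀ : Scheme.{u}} {q : X ⟶ X₀} {r : X' ⟶ X₀} (hr : f' ≫ q = r) {rs : List Γ(X₀, ⊤)}
    {x' : X'} (hflat : (g.stalkMap (f' x')).hom.Flat)
    (h : TransAt g' (rs.map (fun s => r.appTop.hom s)) x') :
    TransAt g (rs.map (fun s => q.appTop.hom s)) (f' x') := by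
  rw [← map_comp_eq hr] at h
  exact TransAt.descend H hflat h

end BC

end K138.TransSch
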