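import Groth.Agent.CInt.K138.LimOpen
import Groth.Agent.CInt.K138.TransSch

/-!
# Flatness at a point of a limit comes from a stage
-/

set_option autoImplicit false
universe u
open CategoryTheory CategoryTheory.Limits AlgebraicGeometry

namespace K138.LimFlat

open Groth.Agent.Ega43.LimBC K138.TransSch K138.LimOpen

section Aux

variable {X S X' S' : Scheme.{u}} {g : X ⟶ S} {f : S' ⟶ S} {f' : X' ⟶ X} {g' : X' ⟶ S'}

theorem flat_ι_comp_iff (g : X ⟶ S) (W : X.Opens) :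
    Flat (W.ι ≫ g) ↔ ∀ x ∈ W, (g.stalkMap x).hom.Flat := by
  rw [Flat.iff_flat_stalkMap]
  have key : ∀ w : (W : Scheme.{u}), ((W.ι ≫ g).stalkMap w).hom.Flat ↔
      (g.stalkMap (W.ι w)).hom.Flat := by
    intro w
    rw [Scheme.Hom.stalkMap_comp]
    constructor
    · intro h
      have h1 : (inv (W.ι.stalkMap w)).hom.Flat :=
        RingHom.Flat.of_bijective (ConcreteCategory.bijective_of_isIso (inv (W.ι.stalkMap w)))
      have h2 := RingHom.Flat.comp h h1
      have h3 : g.stalkMap (W.ι w) =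
          (g.stalkMap (W.ι w) ≫ W.ι.stalkMap w) ≫ inv (W.ι.stalkMap w) := by
        rw [Category.assoc, IsIso.hom_inv_id, Category.comp_id]
      rw [h3]
      exact h2
    · intro h
      have h1 : (W.ι.stalkMap w).hom.Flat :=
        RingHom.Flat.of_bijective (ConcreteCategory.bijective_of_isIso (W.ι.stalkMap w))
      exact RingHom.Flat.comp h h1
  exact ⟨fun h x hx => (key ⟨x, hx⟩).mp (h ⟨x, hx⟩), fun h w => (key w).mpr (h (W.ι w) w.2)⟩

theorem flat_snd_iff (H : IsPullback f' g' g f) (W : X.Opens) :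
    Flat (pullback.snd (W.ι ≫ g) f) ↔ ∀ x', f' x' ∈ W → (g'.stalkMap x').hom.Flat := by
  have h1 : IsPullback (f' ∣_ W) ((f' ⁻¹ᵁ W).ι ≫ g') (W.ι ≫ g) f :=
    (isPullback_morphismRestrict f' W).paste_vert H
  rw [← MorphismProperty.cancel_left_of_respectsIso (P := @Flat)
      (h1.isoIsPullback _ _ (IsPullback.of_hasPullback _ _)).hom,
      IsPullback.isoIsPullback_hom_snd, flat_ι_comp_iff]
  rfl

end Aux

variable {I : Type u} [SmallCategory I] [IsCofiltered I] {D : I ⥤ Scheme.{u}} {c : Cone D}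
  (hc : IsLimit c) [∀ (i j : I) (f : i ⟶ j), IsAffineHom (D.map f)] {i₀ : I}
  {X₀ : Scheme.{u}} (g₀ : X₀ ⟶ D.obj i₀) [LocallyOfFinitePresentation g₀]

include hc in
/-- Flatness at a point of the limit comes from a stage. -/
theorem exists_stage_flat_at (x : (bcCone D c i₀ g₀).pt)
    (hx : ((pullback.snd g₀ (c.π.app i₀)).stalkMap x).hom.Flat) :
    ∃ j : Over i₀, ((pullback.snd g₀ (D.map j.hom)).stalkMap
      ((bcCone D c i₀ g₀).π.app j x)).hom.Flat := by
  have hlfp : LocallyOfFinitePresentation (pullback.snd g₀ (c.π.app i₀)) := inferInstance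
  let O : (pullback g₀ (c.π.app i₀)).Opens :=
    ⟨{x | TransAt (pullback.snd g₀ (c.π.app i₀)) [] x}, isOpen_transAt _ _⟩
  have hO : ∀ y : ↥(pullback g₀ (c.π.app i₀)), y ∈ O ↔
      ((pullback.snd g₀ (c.π.app i₀)).stalkMap y).hom.Flat := fun y => transAt_nil_iff _ _
  have hxO : x ∈ O := (hO x).mpr hx
  obtain ⟨_, ⟨j₁, W₁, hW₁, rfl⟩, hxW₁, hW₁O⟩ := TopologicalSpace.Opens.isBasis_iff_nbhd.mp
    (isBasis_preimage_isAffineOpen (bcDiagram D i₀ g₀) (bcCone D c i₀ g₀)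
      (isLimitBcCone D c i₀ g₀ hc)) (U := O) hxO
  have hg₁ : LocallyOfFinitePresentation (pullback.snd g₀ (D.map j₁.hom)) :=
    MorphismProperty.pullback_snd _ _ inferInstance
  have hg₂ : LocallyOfFinitePresentation (W₁.ι ≫ pullback.snd g₀ (D.map j₁.hom)) :=
    MorphismProperty.comp_mem _ _ _ inferInstance hg₁
  have hcomp : CompactSpace (W₁ : Scheme.{u}) := isCompact_iff_compactSpace.mp hW₁.isCompact
  have hfl := (flat_snd_iff (isPullback_π D c i₀ g₀ j₁) W₁).mpr (fun y hy => (hO y).mp (hW₁O hy))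
  obtain ⟨k, φ, hk⟩ := exists_stage_flat hc _ hfl
  let ψ : Over.mk (φ ≫ j₁.hom) ⟶ j₁ := Over.homMk φ
  have h1 := (flat_snd_iff (isPullback_map D i₀ g₀ ψ) W₁).mp hk
  refine ⟨Over.mk (φ ≫ j₁.hom), h1 _ ?_⟩
  have h2 := (bcCone D c i₀ g₀).w ψ
  show ((bcDiagram D i₀ g₀).map ψ) ((bcCone D c i₀ g₀).π.app _ x) ∈ W₁
  rw [← Scheme.Hom.comp_apply, h2]
  exact hxW₁

end K138.LimFlat
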