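import Groth.Agent.ModPair.K971.LimMod
import Groth.Agent.SDiv.K473.RegImmCalc
import Groth.Agent.Synt.K561.RegImmDict

/-!
# Generators of the ideal of an immersion along a cofiltered limit

* `exists_list`: finite lists of sections over the preimage of an affine open come from a stage.
* `exists_map_eq`: equality of extensions of finitely generated ideals descends to a stage.
* `exists_stage_gen`: generators of the ideal of the base change to the limit of an immersion come from a stage.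
-/

set_option autoImplicit false
universe u
open CategoryTheory CategoryTheory.Limits AlgebraicGeometry

namespace K138.LimGen

open K971.LimBasic K971.LimMod

variable {I : Type u} [SmallCategory I] {D : I ⥤ Scheme.{u}} {c : Cone D}
  [IsCofiltered I] [∀ (i j : I) (f : i ⟶ j), IsAffineHom (D.map f)] (hc : IsLimit c)

omit [IsCofiltered I] [∀ (i j : I) (f : i ⟶ j), IsAffineHom (D.map f)] in
theorem preimage_comp {i j k : I} (f : j ⟶ i) (g : k ⟶ j) (U : (D.obj i).Opens) :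
    D.map (g ≫ f) ⁻¹ᵁ U ≤ D.map g ⁻¹ᵁ D.map f ⁻¹ᵁ U := by
  rw [D.map_comp, Scheme.Hom.comp_preimage]

include hc in
/-- A finite list of sections comes from a stage. -/
theorem exists_list {i : I} (U : (D.obj i).Opens) (hU : IsAffineOpen U)
    (l : List Γ(c.pt, c.π.app i ⁻¹ᵁ U)) :
    ∃ (j : I) (f : j ⟶ i) (l' : List Γ(D.obj j, D.map f ⁻¹ᵁ U)),
      l'.map ((c.π.app j).appLE (D.map f ⁻¹ᵁ U) (c.π.app i ⁻¹ᵁ U) (le_preimage D c f U)).hom = l := by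
  induction l with
  | nil => exact ⟨i, 𝟙 i, [], rfl⟩
  | cons a l ih =>
    obtain ⟨j, f, l', rfl⟩ := ih
    obtain ⟨j', f', a', rfl⟩ := exists_app_eq_affine hc U hU a
    obtain ⟨k, g, g', hg⟩ := IsCofiltered.cospan f f'
    have e : D.map (g ≫ f) ⁻¹ᵁ U ≤ D.map g' ⁻¹ᵁ D.map f' ⁻¹ᵁ U := by
      rw [hg]
      exact preimage_comp f' g' U
    refine ⟨k, g ≫ f, (D.map g').appLE _ _ e a' ::
      l'.map ((D.map g).appLE _ _ (preimage_comp f g U)).hom, ?_⟩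
    rw [List.map_cons, List.map_map]
    congr 1
    · change (c.π.app k).appLE _ _ _ ((D.map g').appLE _ _ e a') = _
      rw [appLE_appLE, appLE_congr_hom (c.w g')]
    · refine List.map_congr_left fun s _ => ?_
      change (c.π.app k).appLE _ _ _ ((D.map g).appLE _ _ (preimage_comp f g U) s) = _
      rw [appLE_appLE, appLE_congr_hom (c.w g)]

omit [IsCofiltered I] [∀ (i j : I) (f : i ⟶ j), IsAffineHom (D.map f)] in
theorem map_map_stage {i j k : I} (f : j ⟶ i) (g : k ⟶ j) (U : (D.obj i).Opens)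
    (A : Ideal Γ(D.obj i, U)) :
    (A.map ((D.map f).appLE U (D.map f ⁻¹ᵁ U) le_rfl).hom).map
      ((D.map g).appLE _ (D.map (g ≫ f) ⁻¹ᵁ U) (preimage_comp f g U)).hom =
    A.map ((D.map (g ≫ f)).appLE U (D.map (g ≫ f) ⁻¹ᵁ U) le_rfl).hom := by
  rw [Ideal.map_map, ← CommRingCat.hom_comp, Scheme.Hom.appLE_comp_appLE]
  congr 2
  ext s
  exact appLE_congr_hom (D.map_comp g f).symm _ s

include hc in
/-- An inclusion of the extension of a finitely generated ideal descends to a stage. -/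
theorem exists_map_le {i : I} (U : (D.obj i).Opens) (hU : IsAffineOpen U)
    (A B : Ideal Γ(D.obj i, U)) (hA : A.FG)
    (h : A.map ((c.π.app i).appLE U (c.π.app i ⁻¹ᵁ U) le_rfl).hom ≤
      B.map ((c.π.app i).appLE U (c.π.app i ⁻¹ᵁ U) le_rfl).hom) :
    ∃ (j : I) (f : j ⟶ i), A.map ((D.map f).appLE U (D.map f ⁻¹ᵁ U) le_rfl).hom ≤
      B.map ((D.map f).appLE U (D.map f ⁻¹ᵁ U) le_rfl).hom := by
  classical
  obtain ⟨G, rfl⟩ := hA
  have h1 : ∀ a : G, ∃ (j : I) (f : j ⟶ i),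
      (Ideal.span {(a : Γ(D.obj i, U))}).map ((D.map f).appLE U (D.map f ⁻¹ᵁ U) le_rfl).hom ≤
      B.map ((D.map f).appLE U (D.map f ⁻¹ᵁ U) le_rfl).hom := fun a => by
    obtain ⟨j, f, hf⟩ := exists_mem_map_of_mem hc U hU B a.1
      (h (Ideal.mem_map_of_mem _ (Ideal.subset_span a.2)))
    refine ⟨j, f, ?_⟩
    rw [Ideal.map_span, Ideal.span_le, Set.image_singleton, Set.singleton_subset_iff]
    exact hf
  choose j f hf using h1
  obtain ⟨k, fk, g, hg⟩ := IsCofiltered.wideCospan f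
  refine ⟨k, fk, ?_⟩
  have h2 : ∀ a : G, (Ideal.span {(a : Γ(D.obj i, U))}).map
      ((D.map fk).appLE U (D.map fk ⁻¹ᵁ U) le_rfl).hom ≤
      B.map ((D.map fk).appLE U (D.map fk ⁻¹ᵁ U) le_rfl).hom := fun a => by
    obtain rfl : g a ≫ f a = fk := hg a
    rw [← map_map_stage, ← map_map_stage]
    exact Ideal.map_mono (hf a)
  rw [Ideal.map_span, Ideal.span_le]
  rintro _ ⟨a, ha, rfl⟩
  exact h2 ⟨a, ha⟩ (Ideal.mem_map_of_mem _ (Ideal.mem_span_singleton_self a))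

include hc in
/-- Equality of extensions of finitely generated ideals descends to a stage. -/
theorem exists_map_eq {i : I} (U : (D.obj i).Opens) (hU : IsAffineOpen U)
    (A B : Ideal Γ(D.obj i, U)) (hA : A.FG) (hB : B.FG)
    (h : A.map ((c.π.app i).appLE U (c.π.app i ⁻¹ᵁ U) le_rfl).hom =
      B.map ((c.π.app i).appLE U (c.π.app i ⁻¹ᵁ U) le_rfl).hom) :
    ∃ (j : I) (f : j ⟶ i), A.map ((D.map f).appLE U (D.map f ⁻¹ᵁ U) le_rfl).hom =
      B.map ((D.map f).appLE U (D.map f ⁻¹ᵁ U) le_rfl).hom := by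
  obtain ⟨j, f, hf⟩ := exists_map_le hc U hU A B hA h.le
  obtain ⟨j', f', hf'⟩ := exists_map_le hc U hU B A hB h.ge
  obtain ⟨k, g, g', hg⟩ := IsCofiltered.cospan f f'
  refine ⟨k, g ≫ f, le_antisymm ?_ ?_⟩
  · rw [← map_map_stage, ← map_map_stage]
    exact Ideal.map_mono hf
  · rw [hg, ← map_map_stage, ← map_map_stage]
    exact Ideal.map_mono hf'

section Gen

open K473.RegImmCalc

variable {X₀ Y₀ : Scheme.{u}} (i₀ : Y₀ ⟶ X₀) [IsImmersion i₀] (p : ∀ j, D.obj j ⟶ X₀)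
  (hp : ∀ (j k : I) (φ : j ⟶ k), D.map φ ≫ p k = p j) (p' : c.pt ⟶ X₀)
  (hp' : ∀ j, c.π.app j ≫ p j = p')
  (hfg : ∀ W₀ : X₀.Opens, IsAffineOpen W₀ → IsClosedImmersion (i₀ ∣_ W₀) →
    (RingHom.ker (i₀.app W₀).hom).FG)

include hc hp hp' hfg in
/-- **Generators of the ideal of the base change to the limit of an immersion come from a stage.** -/
theorem exists_stage_gen (j₀ : I) (z : ↥(pullback i₀ p')) (U : c.pt.Opens) (hU : IsAffineOpen U)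
    (hz : pullback.snd i₀ p' z ∈ U) (hcl : IsClosedImmersion (pullback.snd i₀ p' ∣_ U))
    (rs : List Γ(c.pt, U)) (hrs : RingHom.ker ((pullback.snd i₀ p').app U).hom = Ideal.ofList rs) :
    ∃ (j : I) (_ : j ⟶ j₀) (W : (D.obj j).Opens) (_ : IsAffineOpen W) (hπ : c.π.app j ⁻¹ᵁ W ≤ U)
      (rs' : List Γ(D.obj j, W)), c.π.app j (pullback.snd i₀ p' z) ∈ W ∧
      IsClosedImmersion (pullback.snd i₀ (p j) ∣_ W) ∧
      RingHom.ker ((pullback.snd i₀ (p j)).app W).hom = Ideal.ofList rs' ∧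
      rs'.map ((c.π.app j).appLE W (c.π.app j ⁻¹ᵁ W) le_rfl).hom =
        rs.map (c.pt.presheaf.map (homOfLE hπ).op).hom := by
  have haff : ∀ j, IsAffineHom (c.π.app j) := fun j => isAffineHom_π_app _ _ hc j
  -- an affine open of `X₀`
  obtain ⟨W₀, hW₀, hzW₀, -, hcl₀⟩ := K561.RegImmDict.exists_affine_closed (i := i₀)
    (pullback.fst i₀ p' z) ⊤ trivial
  have hzp : p' (pullback.snd i₀ p' z) ∈ W₀ := by
    rw [← Scheme.Hom.comp_apply, ← pullback.condition, Scheme.Hom.comp_apply]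
    exact hzW₀
  -- an affine open of a stage
  obtain ⟨j₁, f₁, W₁, hzW₁, hW₁U⟩ : ∃ (j₁ : I) (_ : j₁ ⟶ j₀) (W₁ : (D.obj j₁).Opens),
      pullback.snd i₀ p' z ∈ c.π.app j₁ ⁻¹ᵁ W₁ ∧ c.π.app j₁ ⁻¹ᵁ W₁ ≤ U := by
    obtain ⟨_, ⟨j₁, W₁, hW₁, rfl⟩, hzW₁, hW₁U⟩ := TopologicalSpace.Opens.isBasis_iff_nbhd.mp
      (isBasis_preimage_isAffineOpen D c hc) hz
    have e : c.π.app (IsCofiltered.min j₁ j₀) ⁻¹ᵁ (D.map (IsCofiltered.minToLeft j₁ j₀) ⁻¹ᵁ W₁) =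
        c.π.app j₁ ⁻¹ᵁ W₁ := preimage_preimage D c _ W₁
    refine ⟨IsCofiltered.min j₁ j₀, IsCofiltered.minToRight j₁ j₀,
      D.map (IsCofiltered.minToLeft j₁ j₀) ⁻¹ᵁ W₁, ?_, ?_⟩
    · rw [e]
      exact hzW₁
    · rw [e]
      exact hW₁U
  have hz1 : c.π.app j₁ (pullback.snd i₀ p' z) ∈ W₁ ⊓ p j₁ ⁻¹ᵁ W₀ := by
    refine ⟨hzW₁, ?_⟩
    show p j₁ (c.π.app j₁ (pullback.snd i₀ p' z)) ∈ W₀
    rw [← Scheme.Hom.comp_apply, hp']
    exact hzp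
  obtain ⟨W₂, hW₂, hzW₂, hW₂le⟩ := exists_isAffineOpen_mem_and_subset hz1
  have e1 : W₂ ≤ W₁ := fun y hy => (hW₂le hy).1
  have e2 : W₂ ≤ p j₁ ⁻¹ᵁ W₀ := fun y hy => (hW₂le hy).2
  have e3 : c.π.app j₁ ⁻¹ᵁ W₂ ≤ U := ((c.π.app j₁).preimage_mono e1).trans hW₁U
  -- lift the generators
  obtain ⟨j₂, f₂, l, hl⟩ := exists_list hc W₂ hW₂ (rs.map (c.pt.presheaf.map (homOfLE e3).op).hom)
  -- on the preimage of `W₂` in stage `j₂`
  let W₃ : (D.obj j₂).Opens := D.map f₂ ⁻¹ᵁ W₂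
  have hW₃ : IsAffineOpen W₃ := hW₂.preimage (D.map f₂)
  have e4 : W₃ ≤ p j₂ ⁻¹ᵁ W₀ := by
    rw [← hp j₂ j₁ f₂, Scheme.Hom.comp_preimage]
    exact (D.map f₂).preimage_mono e2
  have e5 : c.π.app j₂ ⁻¹ᵁ W₃ = c.π.app j₁ ⁻¹ᵁ W₂ := preimage_preimage D c f₂ W₂
  have e6 : c.π.app j₂ ⁻¹ᵁ W₃ ≤ U := e5.le.trans e3
  have hl' : l.map ((c.π.app j₂).appLE W₃ (c.π.app j₂ ⁻¹ᵁ W₃) le_rfl).hom =
      rs.map (c.pt.presheaf.map (homOfLE e6).op).hom := by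
    have key : ∀ (V : c.pt.Opens) (_ : V = c.π.app j₁ ⁻¹ᵁ W₂) (h1 : V ≤ c.π.app j₂ ⁻¹ᵁ W₃)
        (h2 : V ≤ U), l.map ((c.π.app j₂).appLE W₃ V h1).hom =
          rs.map (c.pt.presheaf.map (homOfLE h2).op).hom := by
      intro V hV h1 h2
      subst hV
      exact hl
    exact key _ e5 _ _
  have e7 : c.π.app j₂ ⁻¹ᵁ W₃ ≤ p' ⁻¹ᵁ W₀ := by
    rw [← hp' j₂, Scheme.Hom.comp_preimage]
    exact (c.π.app j₂).preimage_mono e4
  -- the two ideals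
  have hA : ((RingHom.ker (i₀.app W₀).hom).map ((p j₂).appLE W₀ W₃ e4).hom).map
      ((c.π.app j₂).appLE W₃ (c.π.app j₂ ⁻¹ᵁ W₃) le_rfl).hom =
      (Ideal.ofList l).map ((c.π.app j₂).appLE W₃ (c.π.app j₂ ⁻¹ᵁ W₃) le_rfl).hom := by
    have h1 := (ker_app_of_isPullback (IsPullback.of_hasPullback i₀ p') hW₀
      (hW₃.preimage (c.π.app j₂)) e7 hcl₀).2
    have h2 := (ker_app_of_isPullback (i := pullback.snd i₀ p') (i' := pullback.snd i₀ p')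
      (g := 𝟙 c.pt) (g' := 𝟙 _) (IsPullback.of_horiz_isIso ⟨by simp⟩) hU
      (hW₃.preimage (c.π.app j₂)) e6 hcl).2
    rw [Ideal.map_ofList, hl', Ideal.map_map, ← CommRingCat.hom_comp, Scheme.Hom.appLE_comp_appLE]
    have h3 : (c.π.app j₂ ≫ p j₂).appLE W₀ (c.π.app j₂ ⁻¹ᵁ W₃)
        (by rw [Scheme.Hom.comp_preimage]; exact (c.π.app j₂).preimage_mono e4) =
        p'.appLE W₀ (c.π.app j₂ ⁻¹ᵁ W₃) e7 := by
      ext s
      exact appLE_congr_hom (hp' j₂) _ s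
    rw [h3, ← h1, h2, hrs, Ideal.map_ofList]
    congr 2
  obtain ⟨j₃, f₃, hf₃⟩ := exists_map_eq hc W₃ hW₃ _ _ ((hfg W₀ hW₀ hcl₀).map _)
    (Submodule.fg_span (List.finite_toSet l)) hA
  have e8 : c.π.app j₃ ⁻¹ᵁ (D.map f₃ ⁻¹ᵁ W₃) = c.π.app j₂ ⁻¹ᵁ W₃ := preimage_preimage D c f₃ W₃
  have e9 : D.map f₃ ⁻¹ᵁ W₃ ≤ p j₃ ⁻¹ᵁ W₀ := by
    rw [← hp j₃ j₂ f₃, Scheme.Hom.comp_preimage]
    exact (D.map f₃).preimage_mono e4
  refine ⟨j₃, f₃ ≫ f₂ ≫ f₁, D.map f₃ ⁻¹ᵁ W₃, hW₃.preimage (D.map f₃), ?_,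
    l.map ((D.map f₃).appLE W₃ (D.map f₃ ⁻¹ᵁ W₃) le_rfl).hom, ?_, ?_, ?_, ?_⟩
  · exact e8.le.trans e6
  · have h1 : pullback.snd i₀ p' z ∈ c.π.app j₁ ⁻¹ᵁ W₂ := hzW₂
    rw [← e5, ← e8] at h1
    exact h1
  · exact (ker_app_of_isPullback (IsPullback.of_hasPullback i₀ (p j₃)) hW₀
      (hW₃.preimage (D.map f₃)) e9 hcl₀).1
  · rw [(ker_app_of_isPullback (IsPullback.of_hasPullback i₀ (p j₃)) hW₀
      (hW₃.preimage (D.map f₃)) e9 hcl₀).2, ← Ideal.map_ofList, ← hf₃, Ideal.map_map,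
      ← CommRingCat.hom_comp, Scheme.Hom.appLE_comp_appLE]
    congr 2
    ext s
    exact (appLE_congr_hom (hp j₃ j₂ f₃) _ s).symm
  · rw [List.map_map]
    have key : ∀ (V : c.pt.Opens) (_ : V = c.π.app j₂ ⁻¹ᵁ W₃) (h1 : V ≤ c.π.app j₃ ⁻¹ᵁ (D.map f₃ ⁻¹ᵁ W₃))
        (h2 : V ≤ U), l.map (((c.π.app j₃).appLE (D.map f₃ ⁻¹ᵁ W₃) V h1).hom ∘
          ((D.map f₃).appLE W₃ (D.map f₃ ⁻¹ᵁ W₃) le_rfl).hom) =
          rs.map (c.pt.presheaf.map (homOfLE h2).op).hom := by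
      intro V hV h1 h2
      subst hV
      rw [← hl']
      refine List.map_congr_left fun s _ => ?_
      have h3 := appLE_appLE (c.π.app j₃) (D.map f₃) (U := W₃) le_rfl h1 s
      exact h3.trans (appLE_congr_hom (c.w f₃) _ s)
    exact key _ e8 _ _

end Gen

end K138.LimGen
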