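import Groth.Agent.Lim8.K116.ProConsLim
import Groth.Agent.Subtr.K835.LocClosed
import Groth.Agent.Ega43.LimBC
import Groth.Agent.Smoothlim.FlatDescend

/-!
# Open conditions along a cofiltered limit

* `exists_stage_forall`: open conditions, stable under the transition maps, that hold at (some stage of) every point of the limit
  hold on a whole stage.
* `exists_stage_bc`: the same for the base changes of `X₀ ⟶ D i₀`.
* `exists_stage_flat`: flatness of the base change of `X₀ ⟶ D i₀`.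
-/

set_option autoImplicit false
universe u
open CategoryTheory CategoryTheory.Limits AlgebraicGeometry

namespace K138.LimOpen

open Groth.Agent.Ega43.LimBC

section General

variable {I : Type u} [SmallCategory I] [IsCofiltered I] {D : I ⥤ Scheme.{u}} {c : Cone D}
  (hc : IsLimit c) [∀ (i j : I) (f : i ⟶ j), IsAffineHom (D.map f)]

include hc in
/-- Open conditions holding at every point of the limit at some stage hold on a whole stage. -/
theorem exists_stage_forall (i₀ : I) [CompactSpace (D.obj i₀)] (P : ∀ i : I, D.obj i → Prop)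
    (hopen : ∀ i, IsOpen {x | P i x})
    (hmono : ∀ (j k : I) (φ : j ⟶ k) (x : D.obj j), P k (D.map φ x) → P j x)
    (hpt : ∀ x : c.pt, ∃ j, P j (c.π.app j x)) :
    ∃ (j : I) (_ : j ⟶ i₀), ∀ x, P j x := by
  obtain ⟨j, φ, h⟩ := K116.ProConsLim.exists_stage_subset hc i₀ (fun i => Set.univ)
    (fun i => {x | P i x})
    (fun i => K835.LocClosed.isPro_of_isClosed isClosed_univ)
    (fun i => (Groth.Agent.Ega4fib.H119.ProInd.isPro_compl).mp
      (K835.LocClosed.isPro_of_isClosed (hopen i).isClosed_compl))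
    (fun i j φ x _ => trivial)
    (fun i j φ x hx => hmono i j φ x hx)
    (fun x _ => by
      obtain ⟨j, hj⟩ := hpt x
      exact Set.mem_iUnion.mpr ⟨j, hj⟩)
  exact ⟨j, φ, fun x => h j (𝟙 j) trivial⟩

end General

section BC

variable {I : Type u} [SmallCategory I] [IsCofiltered I] {D : I ⥤ Scheme.{u}} {c : Cone D}
  (hc : IsLimit c) [∀ (i j : I) (f : i ⟶ j), IsAffineHom (D.map f)] {i₀ : I}
  {X₀ : Scheme.{u}} (g₀ : X₀ ⟶ D.obj i₀) [CompactSpace X₀]

include hc in
/-- The same for the base changes of a morphism. -/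
theorem exists_stage_bc (P : ∀ j : Over i₀, (bcDiagram D i₀ g₀).obj j → Prop)
    (hopen : ∀ j, IsOpen {x | P j x})
    (hmono : ∀ (j k : Over i₀) (φ : j ⟶ k) (x : (bcDiagram D i₀ g₀).obj j),
      P k ((bcDiagram D i₀ g₀).map φ x) → P j x)
    (hpt : ∀ x : (bcCone D c i₀ g₀).pt, ∃ j, P j ((bcCone D c i₀ g₀).π.app j x)) (j₀ : Over i₀) :
    ∃ (j : Over i₀) (_ : j ⟶ j₀), ∀ x, P j x := by
  have hcomp : CompactSpace ((bcDiagram D i₀ g₀).obj j₀) := by
    have h1 : IsAffineHom (pullback.fst g₀ (D.map j₀.hom)) :=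
      MorphismProperty.pullback_fst _ _ inferInstance
    have h2 : QuasiCompact (pullback.fst g₀ (D.map j₀.hom)) := inferInstance
    have h3 : CompactSpace ↥(pullback g₀ (D.map j₀.hom)) :=
      QuasiCompact.compactSpace_of_compactSpace (pullback.fst g₀ (D.map j₀.hom))
    exact h3
  exact exists_stage_forall (isLimitBcCone D c i₀ g₀ hc) j₀ P hopen hmono hpt

omit [IsCofiltered I] [CompactSpace X₀] [∀ (i j : I) (f : i ⟶ j), IsAffineHom (D.map f)] in
/-- Flatness of the two descriptions of the base change of `U ⟶ S`. -/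
theorem flat_iff_of_chart {S T : Scheme.{u}} (g : X₀ ⟶ S) (t : T ⟶ S) {U : X₀.Opens} {V : S.Opens}
    (e : U ≤ g ⁻¹ᵁ V) :
    Flat (pullback.snd (g.resLE V U e) (pullback.fst V.ι t)) ↔
      Flat (pullback.snd (U.ι ≫ g) t) := by
  have h1 : IsPullback (pullback.fst (g.resLE V U e) (pullback.fst V.ι t))
      (pullback.snd (g.resLE V U e) (pullback.fst V.ι t) ≫ pullback.snd V.ι t)
      (g.resLE V U e ≫ V.ι) t :=
    IsPullback.paste_vert (IsPullback.of_hasPullback _ _) (IsPullback.of_hasPullback _ _)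
  rw [Scheme.Hom.resLE_comp_ι] at h1
  have h3 : Flat (pullback.snd (g.resLE V U e) (pullback.fst V.ι t) ≫ pullback.snd V.ι t) ↔
      Flat (pullback.snd (U.ι ≫ g) t) := by
    rw [← MorphismProperty.cancel_left_of_respectsIso (P := @Flat)
      (h1.isoIsPullback _ _ (IsPullback.of_hasPullback _ _)).hom,
      IsPullback.isoIsPullback_hom_snd]
  rw [← h3]
  constructor
  · intro h
    infer_instance
  · intro h
    exact MorphismProperty.of_postcomp @Flat (W' := @IsOpenImmersion) _ (pullback.snd V.ι t)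
      inferInstance h

omit [CompactSpace X₀] in
include hc in
theorem exists_stage_flat_affine [LocallyOfFinitePresentation g₀] {U : X₀.Opens} {V : (D.obj i₀).Opens}
    (hU : IsAffineOpen U) (hV : IsAffineOpen V) (e : U ≤ g₀ ⁻¹ᵁ V)
    (h : Flat (pullback.snd g₀ (c.π.app i₀))) :
    ∃ (j : I) (φ : j ⟶ i₀), Flat (pullback.snd (U.ι ≫ g₀) (D.map φ)) := by
  have : IsAffine (U : Scheme.{u}) := hU
  have : IsAffine (V : Scheme.{u}) := hV
  have hlfp : LocallyOfFinitePresentation (g₀.resLE V U e) := inferInstance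
  have hqc : QuasiCompact (g₀.resLE V U e) := inferInstance
  have hflat : Flat (pullback.snd (g₀.resLE V U e) (pullback.fst V.ι (c.π.app i₀))) := by
    rw [flat_iff_of_chart]
    have h1 : pullback.snd (U.ι ≫ g₀) (c.π.app i₀) =
        pullback.map (U.ι ≫ g₀) (c.π.app i₀) g₀ (c.π.app i₀) U.ι (𝟙 _) (𝟙 _) (by simp) (by simp) ≫
          pullback.snd g₀ (c.π.app i₀) :=
      ((pullback.lift_snd _ _ _).trans (Category.comp_id _)).symm
    rw [h1]
    infer_instance
  obtain ⟨j, φ, hj⟩ := Groth.Agent.Smoothlim.LimBase.exists_descend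
    Groth.Agent.Smoothlim.LimBase.descendsAffine_flat D c hc i₀ (g₀.resLE V U e) V.ι
    (pullback.snd (g₀.resLE V U e) (pullback.fst V.ι (c.π.app i₀))) (pullback.snd V.ι (c.π.app i₀))
    (pullback.fst V.ι (c.π.app i₀)) (pullback.fst _ _) (IsPullback.of_hasPullback _ _)
    (IsPullback.of_hasPullback _ _) ⟨hlfp, hqc⟩ hflat
  exact ⟨j, φ, (flat_iff_of_chart g₀ (D.map φ) e).mp hj⟩

include hc in
/-- **Flatness of the base change to the limit comes from a stage.** -/
theorem exists_stage_flat [LocallyOfFinitePresentation g₀]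
    (h : Flat (pullback.snd g₀ (c.π.app i₀))) :
    ∃ (j : I) (φ : j ⟶ i₀), Flat (pullback.snd g₀ (D.map φ)) := by
  classical
  have h1 : ∀ x : X₀, ∃ (U : X₀.Opens), x ∈ U ∧ ∃ j : Over i₀, Flat (pullback.snd (U.ι ≫ g₀) (D.map j.hom)) := by
    intro x
    obtain ⟨V, hV, hxV, -⟩ := exists_isAffineOpen_mem_and_subset (x := g₀ x) (U := ⊤) trivial
    obtain ⟨U, hU, hxU, hUV⟩ := exists_isAffineOpen_mem_and_subset (x := x) (U := g₀ ⁻¹ᵁ V) hxV
    obtain ⟨j, φ, hj⟩ := exists_stage_flat_affine hc g₀ hU hV hUV h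
    exact ⟨U, hxU, Over.mk φ, hj⟩
  choose U hU j hj using h1
  obtain ⟨S, hS⟩ := CompactSpace.elim_nhds_subcover (fun x => (U x : Set X₀)) (fun x => (U x).2.mem_nhds (hU x))
  obtain ⟨k, hk⟩ := IsCofiltered.inf_objs_exists (S.image j)
  refine ⟨k.left, k.hom, ?_⟩
  let 𝒰 : X₀.OpenCover := X₀.openCoverOfIsOpenCover (fun s : S => U s) (by
    rw [TopologicalSpace.IsOpenCover, eq_top_iff]
    intro x _
    have : x ∈ (⊤ : Set X₀) := trivial
    rw [← hS] at this
    obtain ⟨s, hs, hx⟩ := Set.mem_iUnion₂.mp this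
    exact TopologicalSpace.Opens.mem_iSup.mpr ⟨⟨s, hs⟩, hx⟩)
  rw [IsZariskiLocalAtSource.iff_of_openCover (P := @Flat)
    (Scheme.Pullback.openCoverOfLeft 𝒰 g₀ (D.map k.hom))]
  intro (s : S)
  obtain ⟨φ⟩ := hk (Finset.mem_image_of_mem j s.2)
  have h2 : Flat (pullback.snd ((U s).ι ≫ g₀) (D.map k.hom)) := by
    have h3 : D.map k.hom = D.map φ.left ≫ D.map (j s).hom := by
      rw [← D.map_comp, Over.w φ]
    rw [h3]
    exact Groth.Agent.Smoothlim.LimBase.snd_comp @Flat _ _ _ (hj s)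
  have h3 : (Scheme.Pullback.openCoverOfLeft 𝒰 g₀ (D.map k.hom)).f s ≫ pullback.snd g₀ (D.map k.hom) =
      pullback.snd ((U s).ι ≫ g₀) (D.map k.hom) := by
    exact (pullback.lift_snd _ _ _).trans (Category.comp_id _)
  rw [h3]
  exact h2

end BC

end K138.LimOpen
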