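import Groth.Agent.CInt.K138.GrLocM
import Groth.Agent.Ega4dB.GrLocSch
import Groth.Agent.Divis.StalkMod
import Groth.Prelude.Def_EGA4b

/-!
# Normally flat coherent modules along a closed subscheme

* `flat_gr_mod`: on affine opens, all graded pieces of the module of sections are flat.
* `mu_eq_of_specializes`: the minimal numbers of generators of `I_y^n F_y` are invariant under
  generization.
-/

set_option autoImplicit false
universe u
open CategoryTheory AlgebraicGeometry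

namespace K138.NfMod

open K138 K138.Gr K138.GrLocM Groth.Agent.Divis.CartierBasic Groth.Agent.Divis.CartierStalk
  Groth.Agent.Divis.StalkMod Groth.Agent.Ega4dB.NormFlat4

variable {X : Scheme.{u}}

/-- Normal flatness of a coherent module along a closed subscheme, on affine opens. -/
theorem flat_gr_mod (𝓘 : X.IdealSheafData) (F : X.Modules) (hF : Coh.IsCoh F)
    (hnf : ∀ y : ↥𝓘.subscheme, EGA4.IsNormallyFlat (RingHom.ker (𝓘.subschemeι.stalkMap y).hom)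
      ↑(F.presheaf.stalk (𝓘.subschemeι y)))
    {U : X.Opens} (hU : IsAffineOpen U) (n : ℕ) :
    Module.Flat (Γ(X, U) ⧸ 𝓘.ideal ⟨U, hU⟩) (Gr (𝓘.ideal ⟨U, hU⟩) Γ(F, U) n) := by
  apply flat_gr
  intro p hp hIp
  obtain ⟨y, hy, hyp⟩ := Groth.Agent.Ega4dB.GrLocSch.exists_point 𝓘 hU p hIp
  subst hyp
  refine stalk_elim F hF.1 hU (𝓘.subschemeι y) hy ?_
  intro iA iM iT iL l hl hr hloc
  refine ⟨X.presheaf.stalk (𝓘.subschemeι y), inferInstance, iA, iL,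
    F.presheaf.stalk (𝓘.subschemeι y), inferInstance, iM, inferInstance, iT, l, hloc, ?_⟩
  have h1 := hnf y n
  have h2 : (𝓘.ideal ⟨U, hU⟩).map (algebraMap Γ(X, U) (X.presheaf.stalk (𝓘.subschemeι y))) =
      RingHom.ker (𝓘.subschemeι.stalkMap y).hom := by
    rw [ker_stalkMap_subschemeι, stalkIdeal_eq 𝓘 ⟨U, hU⟩ hy]
    congr 1
    exact RingHom.ext hr
  rw [h2]
  exact h1

theorem primeIdealOf_mono {U : X.Opens} (hU : IsAffineOpen U) {x x' : X} (h : x' ⤳ x) (hx : x ∈ U)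
    (hx' : x' ∈ U) : (hU.primeIdealOf ⟨x', hx'⟩).asIdeal ≤ (hU.primeIdealOf ⟨x, hx⟩).asIdeal := by
  have h1 : hU.primeIdealOf ⟨x', hx'⟩ ⤳ hU.primeIdealOf ⟨x, hx⟩ := by
    refine (hU.fromSpec.isOpenEmbedding.isInducing.specializes_iff).mp ?_
    have e1 := hU.fromSpec_primeIdealOf ⟨x', hx'⟩
    have e2 := hU.fromSpec_primeIdealOf ⟨x, hx⟩
    rw [e1, e2]
    exact h
  exact (PrimeSpectrum.le_iff_specializes _ _).mpr h1

/-- The minimal numbers of generators of `I_y^n F_y`, in terms of a rank. -/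
theorem mu_eq [IsLocallyNoetherian X] (𝓘 : X.IdealSheafData) (F : X.Modules) (hF : Coh.IsCoh F)
    (hnf : ∀ y : ↥𝓘.subscheme, EGA4.IsNormallyFlat (RingHom.ker (𝓘.subschemeι.stalkMap y).hom)
      ↑(F.presheaf.stalk (𝓘.subschemeι y)))
    {U : X.Opens} (hU : IsAffineOpen U) (y : 𝓘.subscheme) (hy : 𝓘.subschemeι y ∈ U)
    (P : PrimeSpectrum (Γ(X, U) ⧸ 𝓘.ideal ⟨U, hU⟩))
    (hP : P.asIdeal.comap (Ideal.Quotient.mk _) =
      (hU.primeIdealOf ⟨𝓘.subschemeι y, hy⟩).asIdeal) (n : ℕ) :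
    mu (RingHom.ker (𝓘.subschemeι.stalkMap y).hom) (F.presheaf.stalk (𝓘.subschemeι y)) n =
      Module.rankAtStalk (R := Γ(X, U) ⧸ 𝓘.ideal ⟨U, hU⟩) (Gr (𝓘.ideal ⟨U, hU⟩) Γ(F, U) n) P := by
  have hfl := flat_gr_mod 𝓘 F hF hnf hU n
  have hN : IsNoetherianRing Γ(X, U) := IsLocallyNoetherian.component_noetherian ⟨U, hU⟩
  have hfin := finite_sections hF hU
  refine stalk_elim F hF.1 hU (𝓘.subschemeι y) hy ?_
  intro iA iM iT iL l hl hr hloc
  have h2 : (𝓘.ideal ⟨U, hU⟩).map (algebraMap Γ(X, U) (X.presheaf.stalk (𝓘.subschemeι y))) =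
      RingHom.ker (𝓘.subschemeι.stalkMap y).hom := by
    rw [ker_stalkMap_subschemeι, stalkIdeal_eq 𝓘 ⟨U, hU⟩ hy]
    congr 1
    exact RingHom.ext hr
  have hIp : 𝓘.ideal ⟨U, hU⟩ ≤ (hU.primeIdealOf ⟨𝓘.subschemeι y, hy⟩).asIdeal := by
    rw [← hP]
    intro x hx
    rw [Ideal.mem_comap, Ideal.Quotient.eq_zero_iff_mem.mpr hx]
    exact P.asIdeal.zero_mem
  have h3 := mu_eq_rankAtStalk (𝓘.ideal ⟨U, hU⟩) (X.presheaf.stalk (𝓘.subschemeι y)) l
    (hU.primeIdealOf ⟨𝓘.subschemeι y, hy⟩).asIdeal hIp P hP n hfl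
  rw [h2] at h3
  exact h3

theorem ideal_le (𝓘 : X.IdealSheafData) {U : X.Opens} (hU : IsAffineOpen U) (y : 𝓘.subscheme)
    (hy : 𝓘.subschemeι y ∈ U) :
    𝓘.ideal ⟨U, hU⟩ ≤ (hU.primeIdealOf ⟨𝓘.subschemeι y, hy⟩).asIdeal := by
  let := X.presheaf.algebra_section_stalk (⟨𝓘.subschemeι y, hy⟩ : U)
  have hloc : IsLocalization.AtPrime (X.presheaf.stalk (𝓘.subschemeι y))
    (hU.primeIdealOf ⟨𝓘.subschemeι y, hy⟩).asIdeal := hU.isLocalization_stalk ⟨𝓘.subschemeι y, hy⟩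
  have h1 : (𝓘.ideal ⟨U, hU⟩).map (algebraMap Γ(X, U) (X.presheaf.stalk (𝓘.subschemeι y))) ≤
      IsLocalRing.maximalIdeal (X.presheaf.stalk (𝓘.subschemeι y)) := by
    have h2 : (𝓘.ideal ⟨U, hU⟩).map (algebraMap Γ(X, U) (X.presheaf.stalk (𝓘.subschemeι y))) =
      RingHom.ker (𝓘.subschemeι.stalkMap y).hom := by
      rw [ker_stalkMap_subschemeι, stalkIdeal_eq 𝓘 ⟨U, hU⟩ hy]
      rfl
    rw [h2]
    exact IsLocalRing.le_maximalIdeal (RingHom.ker_ne_top _)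
  rw [Ideal.map_le_iff_le_comap] at h1
  exact h1.trans (IsLocalization.AtPrime.under_maximalIdeal _ _).le

theorem mu_eq_of_specializes [IsLocallyNoetherian X] (𝓘 : X.IdealSheafData) (F : X.Modules)
    (hF : Coh.IsCoh F)
    (hnf : ∀ y : ↥𝓘.subscheme, EGA4.IsNormallyFlat (RingHom.ker (𝓘.subschemeι.stalkMap y).hom)
      ↑(F.presheaf.stalk (𝓘.subschemeι y))) (y η : 𝓘.subscheme) (h : η ⤳ y) (n : ℕ) :
    mu (RingHom.ker (𝓘.subschemeι.stalkMap y).hom) (F.presheaf.stalk (𝓘.subschemeι y)) n =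
      mu (RingHom.ker (𝓘.subschemeι.stalkMap η).hom) (F.presheaf.stalk (𝓘.subschemeι η)) n := by
  obtain ⟨U, hU, hy⟩ := Groth.Agent.Divis.StalkMod.exists_affine (𝓘.subschemeι y)
  have h' : 𝓘.subschemeι η ⤳ 𝓘.subschemeι y := h.map 𝓘.subschemeι.continuous
  have hη : 𝓘.subschemeι η ∈ U := h'.mem_open U.2 hy
  have key : ∀ (z : 𝓘.subscheme) (hz : 𝓘.subschemeι z ∈ U),
      ∃ P : PrimeSpectrum (Γ(X, U) ⧸ 𝓘.ideal ⟨U, hU⟩), P.asIdeal.comap (Ideal.Quotient.mk _) =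
      (hU.primeIdealOf ⟨𝓘.subschemeι z, hz⟩).asIdeal := by
    intro z hz
    have hle := ideal_le 𝓘 hU z hz
    refine ⟨⟨(hU.primeIdealOf ⟨𝓘.subschemeι z, hz⟩).asIdeal.map (Ideal.Quotient.mk _),
      Ideal.map_isPrime_of_surjective Ideal.Quotient.mk_surjective (by rwa [Ideal.mk_ker])⟩, ?_⟩
    show Ideal.comap _ (Ideal.map _ _) = _
    rw [Ideal.comap_map_of_surjective _ Ideal.Quotient.mk_surjective, ← RingHom.ker_eq_comap_bot,
      Ideal.mk_ker, sup_eq_left.mpr hle]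
  obtain ⟨P, hP⟩ := key y hy
  obtain ⟨Q, hQ⟩ := key η hη
  rw [mu_eq 𝓘 F hF hnf hU y hy P hP n, mu_eq 𝓘 F hF hnf hU η hη Q hQ n]
  have hfl := flat_gr_mod 𝓘 F hF hnf hU n
  have hN : IsNoetherianRing Γ(X, U) := IsLocallyNoetherian.component_noetherian ⟨U, hU⟩
  have hfin := finite_sections hF hU
  have i3 : Module.Finite (Γ(X, U) ⧸ 𝓘.ideal ⟨U, hU⟩) (Gr (𝓘.ideal ⟨U, hU⟩) Γ(F, U) n) :=
    Module.Finite.of_restrictScalars_finite Γ(X, U) _ _
  refine (Module.rankAtStalk_eq_of_le_of_finite_of_flat _ ?_).symm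
  have h3 := primeIdealOf_mono hU h' hy hη
  rw [← hP, ← hQ] at h3
  show Q.asIdeal ≤ P.asIdeal
  exact (Ideal.comap_le_comap_iff_of_surjective _ Ideal.Quotient.mk_surjective _ _).mp h3

end K138.NfMod
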