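import Groth.Agent.CInt.K138.Gr
import Mathlib.Algebra.DirectSum.Module

/-!
# Normal flatness along `K` and along `K + x`

* `step_forward`: if all `K^n M / K^(n+1) M` are flat over `A / K` and `x` is regular on `A / K`
  then all `L^n M / L^(n+1) M` are flat over `A / L`, `L = K + x`.
-/

set_option autoImplicit false
universe u v w

namespace K138.Step

open RingTheory.Sequence K138 K138.Gr K138.Basic Groth.Agent.Ega4dB.NormFlat
open scoped Pointwise TensorProduct

variable {A : Type u} [CommRing A] {M : Type v} [AddCommGroup M] [Module A M]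

/-- Normal flatness, spelled out. -/
def NF (K : Ideal A) (M : Type v) [AddCommGroup M] [Module A M] : Prop :=
  ∀ n : ℕ, Module.Flat (A ⧸ K) (Gr K M n)

/-- an element regular on `A / K` is regular on the flat graded pieces. -/
theorem regular_of_flat {K : Ideal A} {x : A} (hx : IsSMulRegular (A ⧸ K) x) (G : Type v)
    [AddCommGroup G] [Module A G] [Module (A ⧸ K) G] [IsScalarTower A (A ⧸ K) G]
    [Module.Flat (A ⧸ K) G] : IsSMulRegular G x := by
  have h1 : IsWeaklyRegular (A ⧸ K) [x] := (isWeaklyRegular_singleton_iff _ _).mpr hx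
  have h2 := (isWeaklyRegular_map_algebraMap_iff (A ⧸ K) (A ⧸ K) [x]).mpr h1
  have h3 := (isWeaklyRegular_map_algebraMap_iff (A ⧸ K) G [x]).mp (isWeaklyRegular_of_flat h2)
  exact (isWeaklyRegular_singleton_iff _ _).mp h3

/-- `N / L N` is flat over `A / L` if `N / K N` is flat over `A / K`, `K ≤ L`. -/
theorem flat_quot_of_flat {K L : Ideal A} (hKL : K ≤ L) (N : Type v) [AddCommGroup N] [Module A N]
    (h : Module.Flat (A ⧸ K) (N ⧸ (K • (⊤ : Submodule A N)))) :
    Module.Flat (A ⧸ L) (N ⧸ (L • (⊤ : Submodule A N))) := by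
  have h1 := (flat_quot_iff hKL (N ⧸ (K • (⊤ : Submodule A N)))).mpr inferInstance
  have hle : (K • (⊤ : Submodule A N)) ≤ (L • (⊤ : Submodule A N)) :=
    Submodule.smul_mono_left hKL
  have e1 : ((N ⧸ (K • (⊤ : Submodule A N))) ⧸ (L • (⊤ : Submodule A (N ⧸ (K • (⊤ : Submodule A N)))))) ≃ₗ[A]
      (N ⧸ (L • (⊤ : Submodule A N))) :=
    (Submodule.quotEquivOfEq _ _ (by
      rw [Submodule.map_smul'', Submodule.map_top, Submodule.range_mkQ])).trans
      (Submodule.quotientQuotientEquivQuotient _ _ hle)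
  exact Module.Flat.of_linearEquiv
    (e1.extendScalarsOfSurjective (Ideal.Quotient.mk_surjective (I := L))).symm

section Forward

variable (K : Ideal A) (x : A)

/-- multiplication by `x^r`, `K^(h-r) M / L K^(h-r) M → L^h M / L^(h+1) M`. -/
def mulMap (h r : ℕ) (hr : r ≤ h) :
    (↥(K ^ (h - r) • (⊤ : Submodule A M)) ⧸ ((K ⊔ Ideal.span {x}) •
      (⊤ : Submodule A ↥(K ^ (h - r) • (⊤ : Submodule A M))))) →ₗ[A]
        Gr (K ⊔ Ideal.span {x}) M h :=
  Submodule.mapQ _ _ (((x ^ r • LinearMap.id : M →ₗ[A] M)).restrict fun _ hy =>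
    pow_smul_mem K x hr hy) (by
      rw [← Submodule.map_le_iff_le_comap, Submodule.map_smul'']
      exact Submodule.smul_mono le_rfl le_top)

theorem mulMap_mk (h r : ℕ) (hr : r ≤ h) (y : M) (hy : y ∈ K ^ (h - r) • (⊤ : Submodule A M)) :
    mulMap K x h r hr (Submodule.Quotient.mk ⟨y, hy⟩) =
      Gr.mk (K ⊔ Ideal.span {x}) h (x ^ r • y) (pow_smul_mem K x hr hy) := rfl

/-- the sum map. -/
noncomputable def sumMap (M : Type v) [AddCommGroup M] [Module A M] (h : ℕ) :
    (∀ r : Fin (h + 1), ↥(K ^ (h - r) • (⊤ : Submodule A M)) ⧸ ((K ⊔ Ideal.span {x}) •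
      (⊤ : Submodule A ↥(K ^ (h - r) • (⊤ : Submodule A M))))) →ₗ[A]
        Gr (K ⊔ Ideal.span {x}) M h :=
  ∑ r : Fin (h + 1), (mulMap K x h r (Nat.lt_succ_iff.mp r.2)) ∘ₗ LinearMap.proj r

theorem sumMap_mk (h : ℕ) (y : ℕ → M) (hy : ∀ r ≤ h, y r ∈ K ^ (h - r) • (⊤ : Submodule A M))
    (hs : ∑ r ∈ Finset.range (h + 1), x ^ r • y r ∈
      (K ⊔ Ideal.span {x}) ^ h • (⊤ : Submodule A M)) :
    sumMap K x M h (fun r => Submodule.Quotient.mk ⟨y r, hy r (Nat.lt_succ_iff.mp r.2)⟩) =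
      Gr.mk (K ⊔ Ideal.span {x}) h (∑ r ∈ Finset.range (h + 1), x ^ r • y r) hs := by
  have h1 : sumMap K x M h (fun r => Submodule.Quotient.mk ⟨y r, hy r (Nat.lt_succ_iff.mp r.2)⟩) =
      ∑ r : Fin (h + 1), Gr.mk (K ⊔ Ideal.span {x}) h (x ^ (r : ℕ) • y r)
        (pow_smul_mem K x (Nat.lt_succ_iff.mp r.2) (hy r (Nat.lt_succ_iff.mp r.2))) := by
    rw [sumMap, LinearMap.sum_apply]
    rfl
  rw [h1]
  have h2 : ∑ r : Fin (h + 1), Gr.mk (K ⊔ Ideal.span {x}) h (x ^ (r : ℕ) • y r)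
        (pow_smul_mem K x (Nat.lt_succ_iff.mp r.2) (hy r (Nat.lt_succ_iff.mp r.2))) =
      Submodule.Quotient.mk (∑ r : Fin (h + 1), ⟨x ^ (r : ℕ) • y r,
        pow_smul_mem K x (Nat.lt_succ_iff.mp r.2) (hy r (Nat.lt_succ_iff.mp r.2))⟩) := by
    rw [← Submodule.mkQ_apply, map_sum]
    rfl
  rw [h2]
  unfold Gr.mk
  congr 1
  ext
  rw [AddSubmonoidClass.coe_finset_sum]
  exact (Finset.sum_range (fun r => x ^ r • y r)).symm

theorem sumMap_surjective (h : ℕ) : Function.Surjective (sumMap K x M h) := by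
  intro z
  obtain ⟨z, hz, rfl⟩ := Gr.mk_surjective _ _ z
  obtain ⟨y, hy, rfl⟩ := exists_decomp K x h z hz
  exact ⟨_, sumMap_mk K x h y hy hz⟩

theorem sumMap_injective (h : ℕ) (hinj : InjAt K x M h) :
    Function.Injective (sumMap K x M h) := by
  rw [injective_iff_map_eq_zero]
  intro w hw
  choose w' hw' using fun r => Submodule.Quotient.mk_surjective _ (w r)
  let y : ℕ → M := fun r => if hr : r < h + 1 then (w' ⟨r, hr⟩ : M) else 0
  have hy : ∀ r ≤ h, y r ∈ K ^ (h - r) • (⊤ : Submodule A M) := by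
    intro r hr
    simp only [y, dif_pos (Nat.lt_succ_iff.mpr hr)]
    exact (w' ⟨r, _⟩).2
  have hyw : w = fun r : Fin (h + 1) =>
      Submodule.Quotient.mk ⟨y r, hy r (Nat.lt_succ_iff.mp r.2)⟩ := by
    ext r
    rw [← hw' r]
    congr 1
    ext
    simp only [y, dif_pos r.2]
  have hs : ∑ r ∈ Finset.range (h + 1), x ^ r • y r ∈
      (K ⊔ Ideal.span {x}) ^ h • (⊤ : Submodule A M) :=
    sum_mem fun r hr => pow_smul_mem K x (by simpa [Nat.lt_succ_iff] using hr)
      (hy r (by simpa [Nat.lt_succ_iff] using hr))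
  rw [hyw, sumMap_mk K x h y hy hs, Gr.mk_eq_zero_iff] at hw
  rw [hyw]
  ext r
  rw [Pi.zero_apply, Submodule.Quotient.mk_eq_zero, Submodule.mem_smul_top_iff]
  exact hinj y hy hw r (Nat.lt_succ_iff.mp r.2)

/-- One step, forward direction. -/
theorem step_forward {K : Ideal A} {x : A} (hx : IsSMulRegular (A ⧸ K) x) (hNF : NF K M) :
    NF (K ⊔ Ideal.span {x}) M := by
  intro h
  have hreg : ∀ n, IsSMulRegular (Gr K M n) x := fun n => by
    have := hNF n
    exact regular_of_flat hx (Gr K M n)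
  have hinj : InjAt K x M h := injAt_of_regular K x
    (fun j y hy hxy => (Gr.isSMulRegular_iff K j x).mp (hreg j) y hy hxy) h
  have hflat : ∀ r : Fin (h + 1), Module.Flat (A ⧸ (K ⊔ Ideal.span {x}))
      (↥(K ^ (h - r) • (⊤ : Submodule A M)) ⧸ ((K ⊔ Ideal.span {x}) •
        (⊤ : Submodule A ↥(K ^ (h - r) • (⊤ : Submodule A M))))) := fun r =>
    flat_quot_of_flat le_sup_left _ (hNF _)
  have h2 := Module.Flat.of_linearEquiv (DirectSum.linearEquivFunOnFintype
    (A ⧸ (K ⊔ Ideal.span {x})) (Fin (h + 1)) (fun r : Fin (h + 1) =>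
      (↥(K ^ (h - r) • (⊤ : Submodule A M)) ⧸ ((K ⊔ Ideal.span {x}) •
        (⊤ : Submodule A ↥(K ^ (h - r) • (⊤ : Submodule A M))))))).symm
  let e := LinearEquiv.ofBijective (sumMap K x M h)
    ⟨sumMap_injective K x h hinj, sumMap_surjective K x h⟩
  exact Module.Flat.of_linearEquiv
    (e.extendScalarsOfSurjective (Ideal.Quotient.mk_surjective (I := K ⊔ Ideal.span {x}))).symm

end Forward

end K138.Step
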