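import Groth.Prelude.Def_RegImm
import Groth.Agent.Ega4dB.FlatReg
import Groth.Agent.Ega43.FibReg

/-!
# Transversally regular sequences at a prime

`TA A T fs`: the sequence `fs` of elements of the `A`-algebra `B` becomes transversally regular over
`A` after inverting the submonoid `T` of `B`.

* `ta_iff`: in terms of a localization.
* `isTransRegularSeq_iff`: local-global.
* `TA.take`, `ta_of_take`: reduction to sequences inside a prime.
* `TA.baseChange`: stability under base change.
* `exists_notMem`: openness (finite presentation).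
* `descend`: descent along a base change, given flatness downstairs (finite presentation).
-/

set_option autoImplicit false
universe u

open TensorProduct Function RingTheory.Sequence
open Groth.Agent.Ega4dB.LocReg

namespace K138.TransAlg

section Basic

variable {A B : Type u} [CommRing A] [CommRing B] [Algebra A B]

variable (A) in
/-- `fs` is transversally regular relative to `A` after inverting `T`. -/
def TA (T : Submonoid B) (fs : List B) : Prop :=
  TReg T B fs ∧ ∀ i, TFlat A T (B ⧸ (Ideal.ofList (fs.take i) • ⊤ : Submodule B B))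

theorem tFlat_ofList_congr {T : Submonoid B} {l l' : List B} (h : l = l') :
    TFlat A T (B ⧸ (Ideal.ofList l • ⊤ : Submodule B B)) ↔
      TFlat A T (B ⧸ (Ideal.ofList l' • ⊤ : Submodule B B)) := by
  subst h
  exact Iff.rfl

theorem ta_iff (C : Type u) [CommRing C] [Algebra B C] [Algebra A C] [IsScalarTower A B C]
    (T : Submonoid B) [IsLocalization T C] (fs : List B) :
    TA A T fs ↔ IsWeaklyRegular C fs ∧
      ∀ i, Module.Flat A (C ⧸ (Ideal.ofList (fs.take i)).map (algebraMap B C)) := by
  unfold TA
  rw [Groth.Agent.Ega4dB.FlatRegRing.isWeaklyRegular_iff_tReg (C := C) T]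
  refine and_congr_right fun _ => forall_congr' fun i => ?_
  rw [Groth.Agent.Ega4dB.FlatRegRing.flat_quot_iff (A := A) (C := C) T]

theorem TA.mono {T T' : Submonoid B} (h : T ≤ T') {fs : List B} (hT : TA A T fs) :
    TA A T' fs := by
  refine ⟨fun i hi m hm => ?_, fun i I z hz => ?_⟩
  · obtain ⟨s, hs, hs'⟩ := hT.1 i hi m hm
    exact ⟨s, h hs, hs'⟩
  · obtain ⟨s, hs, hs'⟩ := hT.2 i I z hz
    exact ⟨s, h hs, hs'⟩

theorem TA.take {T : Submonoid B} {fs : List B} (hT : TA A T fs) (k : ℕ) :
    TA A T (fs.take k) := by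
  refine ⟨fun i hi m hm => ?_, fun i => ?_⟩
  · have hi1 : i < k := lt_of_lt_of_le hi (by rw [List.length_take]; exact min_le_left _ _)
    have hi2 : i < fs.length := lt_of_lt_of_le hi (by rw [List.length_take]; exact min_le_right _ _)
    rw [List.take_take, min_eq_left hi1.le] at hm ⊢
    rw [List.getElem_take] at hm
    exact hT.1 i hi2 m hm
  · exact (tFlat_ofList_congr (List.take_take)).2 (hT.2 _)

theorem ta_of_take {T : Submonoid B} {fs : List B} {k : ℕ} (hk : k < fs.length) (hT : fs[k] ∈ T)
    (h : TA A T (fs.take k)) : TA A T fs := by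
  refine ⟨fun i hi m hm => ?_, fun i => ?_⟩
  · rcases lt_trichotomy i k with hik | hik | hik
    · have hi1 : i < (fs.take k).length := by rw [List.length_take]; exact lt_min hik hi
      have := h.1 i hi1 m (by
        rw [List.take_take, min_eq_left hik.le, List.getElem_take]
        exact hm)
      rwa [List.take_take, min_eq_left hik.le] at this
    · subst hik
      exact ⟨fs[i], hT, hm⟩
    · refine ⟨fs[k], hT, ?_⟩
      refine Submodule.smul_mem_smul (Ideal.subset_span ?_) trivial
      rw [Set.mem_ofPred_eq, List.mem_take_iff_getElem]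
      exact ⟨k, lt_min hik hk, rfl⟩
  · rcases le_or_gt i k with hik | hik
    · exact (tFlat_ofList_congr (by rw [List.take_take, min_eq_left hik])).1 (h.2 i)
    · intro I z _
      refine ⟨fs[k], hT, ?_⟩
      have key : ∀ b : B ⧸ (Ideal.ofList (fs.take i) • ⊤ : Submodule B B), fs[k] • b = 0 := by
        intro b
        obtain ⟨b, rfl⟩ := Submodule.Quotient.mk_surjective _ b
        rw [← Submodule.Quotient.mk_smul, Submodule.Quotient.mk_eq_zero]
        refine Submodule.smul_mem_smul (Ideal.subset_span ?_) trivial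
        rw [Set.mem_ofPred_eq, List.mem_take_iff_getElem]
        exact ⟨k, lt_min hik hk, rfl⟩
      induction z using TensorProduct.induction_on with
      | zero => rw [smul_zero]
      | add x y hx hy =>
        rw [smul_add]
        have hall : ∀ w : (B ⧸ (Ideal.ofList (fs.take i) • ⊤ : Submodule B B)) ⊗[A] I,
            fs[k] • w = 0 := by
          intro w
          induction w using TensorProduct.induction_on with
          | zero => rw [smul_zero]
          | add x y hx hy => rw [smul_add, hx, hy, add_zero]
          | tmul x y => rw [TensorProduct.smul_tmul', key, TensorProduct.zero_tmul]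
        rw [hall, hall, add_zero]
      | tmul x y => rw [TensorProduct.smul_tmul', key, TensorProduct.zero_tmul]

/-- The first member of the list outside `q`. -/
theorem exists_first (q : Ideal B) (fs : List B) :
    (∀ f ∈ fs, f ∈ q) ∨ ∃ (k : ℕ) (hk : k < fs.length), fs[k] ∉ q ∧ ∀ f ∈ fs.take k, f ∈ q := by
  induction fs with
  | nil => left; simp
  | cons f fs ih =>
    by_cases hf : f ∈ q
    · rcases ih with h | ⟨k, hk, h1, h2⟩
      · left
        intro g hg
        rcases List.mem_cons.mp hg with rfl | hg
        · exact hf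
        · exact h g hg
      · right
        refine ⟨k + 1, by simpa using hk, by simpa using h1, ?_⟩
        intro g hg
        rw [List.take_succ_cons] at hg
        rcases List.mem_cons.mp hg with rfl | hg
        · exact hf
        · exact h2 g hg
    · right
      exact ⟨0, by simp, by simpa using hf, by simp⟩

/-- **Local-global.** -/
theorem isTransRegularSeq_iff (fs : List B) :
    RegImm.IsTransRegularSeq A B fs ↔
      ∀ (q : Ideal B) [q.IsPrime], TA A q.primeCompl fs := by
  have hone : TA A (Submonoid.powers (1 : B)) fs ↔ RegImm.IsTransRegularSeq A B fs := by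
    have : IsLocalization (Submonoid.powers (1 : B)) B :=
      IsLocalization.of_le_isUnit (by
        rintro _ ⟨n, rfl⟩
        simp)
    rw [ta_iff B (Submonoid.powers (1 : B)) fs]
    unfold RegImm.IsTransRegularSeq
    refine and_congr_right fun _ => ?_
    have hmap : ∀ I : Ideal B, I.map (algebraMap B B) = I := fun I => Ideal.map_id I
    constructor
    · intro h j _
      have := h j
      rwa [hmap] at this
    · intro h i
      rw [hmap]
      rcases le_or_gt i fs.length with hi | hi
      · exact h i hi
      · have h1 := h fs.length le_rfl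
        rw [List.take_of_length_le hi.le]
        rwa [List.take_length] at h1
  rw [← hone]
  constructor
  · intro h q hq
    refine h.mono ?_
    rintro _ ⟨n, rfl⟩
    exact pow_mem (one_mem _) n
  · intro h
    refine ⟨?_, fun i => ?_⟩
    · exact Groth.Agent.Ega4dB.FlatRegRing.tReg_powers fs 1 (fun q _ _ => (h q).1)
    · exact Groth.Agent.Ega4dB.FlatRegRing.tFlat_powers 1 (fun q _ _ => (h q).2 i)

/-- Fibrewise regularity from transversal regularity. -/
theorem TA.tensor {T : Submonoid B} {fs : List B} (hT : TA A T fs) (K : Type u) [AddCommGroup K]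
    [Module A K] : TReg T (B ⊗[A] K) fs := by
  have h1 : IsWeaklyRegular (LocalizedModule T B) fs :=
    (isWeaklyRegular_localized_iff T (LocalizedModule.mkLinearMap T B) fs).2 hT.1
  have h2 : ∀ i, Module.Flat A (LocalizedModule T B ⧸
      (Ideal.ofList (fs.take (i + 1)) • (⊤ : Submodule B (LocalizedModule T B)))) := by
    intro i
    rw [flat_iff_tflat T (quotMap (LocalizedModule.mkLinearMap T B) _)]
    exact hT.2 (i + 1)
  have h3 := Groth.Agent.Ega4dB.FlatRegNoeth.isWeaklyRegular_tensor fs (LocalizedModule T B) h1 h2 K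
  have h4 : IsLocalizedModule T (AlgebraTensorModule.rTensor A K
    (LocalizedModule.mkLinearMap T B)) := inferInstance
  rwa [isWeaklyRegular_localized_iff T (AlgebraTensorModule.rTensor A K
    (LocalizedModule.mkLinearMap T B))] at h3

theorem TA.flat {T : Submonoid B} {fs : List B} (hT : TA A T fs) :
    Module.Flat A (LocalizedModule T B) := by
  rw [flat_iff_tflat T (LocalizedModule.mkLinearMap T B)]
  have h0 := (tFlat_ofList_congr (List.take_zero)).1 (hT.2 0)
  exact (Groth.Agent.Ega4dB.FlatPolyFib.tFlat_congr T (Submodule.quotEquivOfEqBot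
      (Ideal.ofList ([] : List B) • (⊤ : Submodule B B)) (by simp))).1 h0

end Basic

section BC

variable {A₁ A B₁ B : Type u} [CommRing A₁] [CommRing A] [CommRing B₁] [CommRing B]
  [Algebra A₁ A] [Algebra A₁ B₁] [Algebra A B] [Algebra B₁ B] [Algebra A₁ B]
  [IsScalarTower A₁ A B] [IsScalarTower A₁ B₁ B]

/-- **Base change.** -/
theorem TA.baseChange [hpush : Algebra.IsPushout A₁ A B₁ B] {T₁ : Submonoid B₁} {T : Submonoid B}
    (hT : ∀ t ∈ T₁, algebraMap B₁ B t ∈ T) {fs : List B₁} (h : TA A₁ T₁ fs) :
    TA A T (fs.map (algebraMap B₁ B)) := by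
  have hμ : IsBaseChange A (IsScalarTower.toAlgHom A₁ B₁ B).toLinearMap := hpush.out
  have hρ : ∀ (p : B₁) (m : B₁), (IsScalarTower.toAlgHom A₁ B₁ B).toLinearMap (p • m) =
      algebraMap B₁ B p • (IsScalarTower.toAlgHom A₁ B₁ B).toLinearMap m := fun p m => by
    simp
  refine ⟨TReg.baseChange (algebraMap B₁ B) _ hρ hμ hT h.1 (fun i => h.2 (i + 1)), fun i => ?_⟩
  exact (tFlat_ofList_congr List.map_take).1
    (TFlat.quot_baseChange (algebraMap B₁ B) _ hρ hμ hT (h.2 i))

end BC

section Open

variable {A B : Type u} [CommRing A] [CommRing B] [Algebra A B]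

/-- **Openness.** -/
theorem exists_notMem [Algebra.FinitePresentation A B] (q : Ideal B) [q.IsPrime] (fs : List B)
    (h : TA A q.primeCompl fs) :
    ∃ g : B, g ∉ q ∧ ∀ (q' : Ideal B) [q'.IsPrime], g ∉ q' → TA A q'.primeCompl fs := by
  rcases exists_first q fs with hfs | ⟨k, hk, h1, h2⟩
  · obtain ⟨g, hg, h3⟩ := Groth.Agent.Ega4dB.FlatPolyFib.exists_notMem_list q fs B hfs h.flat
      (h.tensor (A ⧸ q.comap (algebraMap A B)))
    exact ⟨g, hg, fun q' _ hq' => ⟨(h3 q' hq').1, (h3 q' hq').2⟩⟩
  · obtain ⟨g, hg, h3⟩ := Groth.Agent.Ega4dB.FlatPolyFib.exists_notMem_list q (fs.take k) B h2 h.flat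
      ((h.take k).tensor (A ⧸ q.comap (algebraMap A B)))
    refine ⟨g * fs[k], ?_, fun q' _ hq' => ?_⟩
    · intro hm
      rcases Ideal.IsPrime.mem_or_mem ‹_› hm with hm | hm
      · exact hg hm
      · exact h1 hm
    · have hg' : g ∉ q' := fun hm => hq' (Ideal.mul_mem_right _ _ hm)
      have hk' : fs[k] ∉ q' := fun hm => hq' (Ideal.mul_mem_left _ _ hm)
      exact ta_of_take hk hk' ⟨(h3 q' hg').1, (h3 q' hg').2⟩

end Open

section Descend

variable {A₁ A B₁ B : Type u} [CommRing A₁] [CommRing A] [CommRing B₁] [CommRing B]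
  [Algebra A₁ A] [Algebra A₁ B₁] [Algebra A B] [Algebra B₁ B] [Algebra A₁ B]
  [IsScalarTower A₁ A B] [IsScalarTower A₁ B₁ B]

/-- **Descent** along a base change, given flatness downstairs. -/
theorem descend [Algebra.FinitePresentation A₁ B₁] [hpush : Algebra.IsPushout A₁ A B₁ B]
    (q : Ideal B) [q.IsPrime] (fs : List B₁)
    (hflat : Module.Flat A₁ (LocalizedModule (q.comap (algebraMap B₁ B)).primeCompl B₁))
    (h : TA A q.primeCompl (fs.map (algebraMap B₁ B))) :
    TA A₁ (q.comap (algebraMap B₁ B)).primeCompl fs := by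
  have key : ∀ gs : List B₁, (∀ f ∈ gs, f ∈ q.comap (algebraMap B₁ B)) →
      TA A q.primeCompl (gs.map (algebraMap B₁ B)) →
      TA A₁ (q.comap (algebraMap B₁ B)).primeCompl gs := by
    intro gs hgs h
    have h1 : IsWeaklyRegular (LocalizedModule q.primeCompl
      (B ⊗[A] (q.comap (algebraMap A B)).ResidueField)) (gs.map (algebraMap B₁ B)) :=
      (isWeaklyRegular_localized_iff q.primeCompl (LocalizedModule.mkLinearMap _ _) _).2
        (h.tensor _)
    have h2 := Groth.Agent.Ega43.FibReg.isWeaklyRegular_fibre (R₁ := A₁) (R := A)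
      (Algebra.linearMap B₁ B) (IsBaseChange.linearMap B₁ B) q gs h1
    obtain ⟨g, hg, h3⟩ := Groth.Agent.Ega4dB.FlatPolyFib.exists_notMem_isWeaklyRegular (A := A₁)
      (q.comap (algebraMap B₁ B)) gs hgs hflat h2
    obtain ⟨h4, h5⟩ := h3 _ hg
    exact ⟨(isWeaklyRegular_localized_iff _ (LocalizedModule.mkLinearMap _ _) _).1 h4,
      fun i => (flat_iff_tflat _ (LocalizedModule.mkLinearMap _ _)).1 (h5 i)⟩
  rcases exists_first (q.comap (algebraMap B₁ B)) fs with hfs | ⟨k, hk, h1, h2⟩
  · exact key fs hfs h
  · refine ta_of_take hk h1 (key _ h2 ?_)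
    rw [List.map_take]
    exact h.take k

end Descend

end K138.TransAlg
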