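import Groth.Agent.CInt.K138.Step
import Groth.Agent.Flat2E.QFlat
import Groth.Agent.Divis.FlatExt

/-!
# Powers of an ideal generated by a regular sequence

* `NF_sup_ofList`: normal flatness along `K` passes to `K + (rs)` for `rs` regular on `A / K`.
* `flat_quot_pow`: if `rs` is regular on the `A`-algebra `B` and `B / (rs)` is flat over `A` then so
  are all `B / (rs)^m`.
-/

set_option autoImplicit false
universe u v w

namespace K138.TransFlat

open RingTheory.Sequence K138 K138.Gr K138.Basic K138.Step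
open scoped Pointwise TensorProduct

section NF

variable {A : Type u} [CommRing A] {M : Type v} [AddCommGroup M] [Module A M]

/-- `(A / K) / x = A / (K + x)`. -/
theorem exists_quotSMulTopEquiv (K : Ideal A) (x : A) :
    Nonempty (QuotSMulTop x (A ⧸ K) ≃ₗ[A] A ⧸ (K ⊔ Ideal.span {x})) := by
  have h1 : (x • (⊤ : Submodule A (A ⧸ K))) =
      Submodule.map (Submodule.mkQ (K : Submodule A A)) (K ⊔ Ideal.span {x}) := by
    rw [← Submodule.ideal_span_singleton_smul]
    apply le_antisymm
    · rw [Submodule.smul_le]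
      intro r hr m _
      obtain ⟨m, rfl⟩ := Submodule.mkQ_surjective _ m
      rw [← map_smul]
      refine Submodule.mem_map_of_mem ?_
      exact Ideal.mul_mem_right _ _ (le_sup_right (a := K) hr)
    · rintro _ ⟨y, hy, rfl⟩
      obtain ⟨k, hk, z, hz, rfl⟩ := Submodule.mem_sup.mp hy
      rw [map_add, Submodule.mkQ_apply, (Submodule.Quotient.mk_eq_zero _).mpr hk, zero_add]
      have : (Submodule.mkQ (K : Submodule A A)) z = z • (Submodule.mkQ (K : Submodule A A)) 1 := by
        rw [← map_smul, smul_eq_mul, mul_one]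
      rw [this]
      exact Submodule.smul_mem_smul hz trivial
  exact ⟨(Submodule.quotEquivOfEq _ _ h1).trans
    (Submodule.quotientQuotientEquivQuotient _ _ le_sup_left)⟩

theorem isWeaklyRegular_cons_quot (K : Ideal A) (x : A) (rs : List A) :
    IsWeaklyRegular (A ⧸ K) (x :: rs) ↔
      IsSMulRegular (A ⧸ K) x ∧ IsWeaklyRegular (A ⧸ (K ⊔ Ideal.span {x})) rs := by
  obtain ⟨e⟩ := exists_quotSMulTopEquiv K x
  rw [isWeaklyRegular_cons_iff, e.isWeaklyRegular_congr]

theorem sup_ofList_cons (K : Ideal A) (x : A) (rs : List A) :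
    K ⊔ Ideal.ofList (x :: rs) = (K ⊔ Ideal.span {x}) ⊔ Ideal.ofList rs := by
  rw [Ideal.ofList_cons, sup_assoc]

theorem NF_sup_ofList (rs : List A) : ∀ (K : Ideal A) (_ : IsWeaklyRegular (A ⧸ K) rs)
    (_ : NF K M), NF (K ⊔ Ideal.ofList rs) M := by
  induction rs with
  | nil =>
    intro K _ h
    have : K ⊔ Ideal.ofList [] = K := by rw [Ideal.ofList_nil, sup_bot_eq]
    rw [this]
    exact h
  | cons x rs ih =>
    intro K hreg h
    rw [isWeaklyRegular_cons_quot] at hreg
    rw [sup_ofList_cons]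
    exact ih _ hreg.2 (step_forward hreg.1 h)

/-- A flat module is normally flat along the zero ideal. -/
theorem NF_bot [Module.Flat A M] : NF (⊥ : Ideal A) M := by
  intro n
  rcases n with _ | n
  · let e : M ≃ₗ[A] Gr (⊥ : Ideal A) M 0 :=
      LinearEquiv.ofBijective ({
        toFun := fun m => Gr.mk (⊥ : Ideal A) 0 m (by simp)
        map_add' := fun _ _ => rfl
        map_smul' := fun _ _ => rfl } : M →ₗ[A] Gr (⊥ : Ideal A) M 0) ⟨by
          rw [injective_iff_map_eq_zero]
          intro m hm
          have hm' : Gr.mk (⊥ : Ideal A) 0 m (by simp) = 0 := hm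
          rw [Gr.mk_eq_zero_iff] at hm'
          simpa using hm', by
          intro z
          obtain ⟨y, hy, rfl⟩ := Gr.mk_surjective _ _ z
          exact ⟨y, rfl⟩⟩
    let e0 : (A ⧸ (⊥ : Ideal A)) ≃+* A := RingEquiv.quotientBot A
    refine flat_of_equiv e0 e.symm.toAddEquiv ?_ (inferInstance : Module.Flat A M)
    intro a p
    obtain ⟨a, rfl⟩ := Ideal.Quotient.mk_surjective a
    have h1 : Ideal.Quotient.mk (⊥ : Ideal A) a • p = a • p := rfl
    rw [h1]
    exact e.symm.map_smul a p
  · have : Subsingleton (Gr (⊥ : Ideal A) M (n + 1)) := by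
      refine ⟨fun a b => ?_⟩
      obtain ⟨y, hy, rfl⟩ := Gr.mk_surjective _ _ a
      obtain ⟨z, hz, rfl⟩ := Gr.mk_surjective _ _ b
      have h1 : y = 0 := by simpa [Ideal.bot_pow] using hy
      have h2 : z = 0 := by simpa [Ideal.bot_pow] using hz
      subst h1 h2
      rfl
    infer_instance

end NF

section Flat

variable {A B : Type u} [CommRing A] [CommRing B] [Algebra A B]

theorem flat_gr (rs : List B) (hrs : IsWeaklyRegular B rs)
    (hfl : Module.Flat A (B ⧸ Ideal.ofList rs)) (m : ℕ) :
    Module.Flat A (Gr (Ideal.ofList rs) B m) := by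
  have h1 : IsWeaklyRegular (B ⧸ (⊥ : Ideal B)) rs := by
    have e : (B ⧸ (⊥ : Ideal B)) ≃ₗ[B] B := Submodule.quotEquivOfEqBot _ rfl
    exact (e.isWeaklyRegular_congr rs).mpr hrs
  have h2 := NF_sup_ofList rs (M := B) ⊥ h1 NF_bot
  rw [bot_sup_eq] at h2
  have h3 := h2 m
  have : IsScalarTower A (B ⧸ Ideal.ofList rs) (Gr (Ideal.ofList rs) B m) := by
    refine ⟨fun a b x => ?_⟩
    obtain ⟨b, rfl⟩ := Ideal.Quotient.mk_surjective b
    obtain ⟨x, rfl⟩ := Submodule.Quotient.mk_surjective _ x
    have e1 : a • (Ideal.Quotient.mk (Ideal.ofList rs) b) = Ideal.Quotient.mk _ (a • b) := rfl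
    rw [e1]
    show (Submodule.Quotient.mk ((a • b) • x) : Gr (Ideal.ofList rs) B m) =
      Submodule.Quotient.mk (a • (b • x))
    rw [smul_assoc]
  exact Module.Flat.trans A (B ⧸ Ideal.ofList rs) _

theorem flat_quot_pow (rs : List B) (hrs : IsWeaklyRegular B rs)
    (hfl : Module.Flat A (B ⧸ Ideal.ofList rs)) (m : ℕ) :
    Module.Flat A (B ⧸ Ideal.ofList rs ^ m) := by
  induction m with
  | zero =>
    have : Subsingleton (B ⧸ Ideal.ofList rs ^ 0) := by
      rw [pow_zero]
      exact Ideal.Quotient.subsingleton_iff.mpr Ideal.one_eq_top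
    infer_instance
  | succ m ih =>
    set J := Ideal.ofList rs with hJ
    have hg := flat_gr rs hrs hfl m
    rw [← hJ] at hg
    let f : Gr J B m →ₗ[B] (B ⧸ J ^ (m + 1)) :=
      Submodule.mapQ _ _ (Submodule.subtype _) (by
        rintro y hy
        rw [Submodule.mem_smul_top_iff, ← Submodule.mul_smul, ← pow_succ'] at hy
        have hy' : (y : B) ∈ J ^ (m + 1) := by simpa using hy
        exact hy')
    let g : (B ⧸ J ^ (m + 1)) →ₗ[B] (B ⧸ J ^ m) :=
      Submodule.mapQ _ _ LinearMap.id (Ideal.pow_le_pow_right (Nat.le_succ m))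
    have hf : Function.Injective f := by
      rw [injective_iff_map_eq_zero]
      intro z hz
      obtain ⟨y, hy, rfl⟩ := Gr.mk_surjective _ _ z
      have h1 : (Submodule.Quotient.mk y : B ⧸ J ^ (m + 1)) = 0 := hz
      rw [Submodule.Quotient.mk_eq_zero] at h1
      rw [Gr.mk_eq_zero_iff]
      simpa using h1
    have hgs : Function.Surjective g := by
      intro z
      obtain ⟨y, rfl⟩ := Submodule.Quotient.mk_surjective _ z
      exact ⟨Submodule.Quotient.mk y, rfl⟩
    have hex : Function.Exact f g := by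
      intro z
      obtain ⟨y, rfl⟩ := Submodule.Quotient.mk_surjective _ z
      constructor
      · intro h
        have h1 : (Submodule.Quotient.mk y : B ⧸ J ^ m) = 0 := h
        rw [Submodule.Quotient.mk_eq_zero] at h1
        exact ⟨Gr.mk J m y (by simpa using h1), rfl⟩
      · rintro ⟨w, hw⟩
        obtain ⟨w, hw', rfl⟩ := Gr.mk_surjective _ _ w
        rw [← hw]
        show (Submodule.Quotient.mk w : B ⧸ J ^ m) = 0
        rw [Submodule.Quotient.mk_eq_zero]
        simpa using hw'
    exact Groth.Agent.Divis.FlatExt.flat_of_exact (f := f.restrictScalars A)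
      (g := g.restrictScalars A) hf hex hgs

end Flat

end K138.TransFlat
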