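import Groth.Agent.CInt.K138.TransFlat

/-!
# Flatness of `J^n / J^m` and of the localizations of `J^n`
-/

set_option autoImplicit false
universe u v w

namespace K138.TransFlat2

open RingTheory.Sequence K138 K138.Gr K138.Basic K138.Step K138.TransFlat

variable {A B : Type u} [CommRing A] [CommRing B] [Algebra A B]

theorem flat_pow_quot (J : Ideal B) (n m : ℕ) (hnm : n ≤ m) (h1 : Module.Flat A (B ⧸ J ^ n))
    (h2 : Module.Flat A (B ⧸ J ^ m)) :
    Module.Flat A (↥(J ^ n) ⧸ (Submodule.comap (J ^ n).subtype (J ^ m))) := by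
  let f : (↥(J ^ n) ⧸ (Submodule.comap (J ^ n).subtype (J ^ m))) →ₗ[B] (B ⧸ J ^ m) :=
    Submodule.mapQ _ _ (Submodule.subtype _) le_rfl
  let g : (B ⧸ J ^ m) →ₗ[B] (B ⧸ J ^ n) :=
    Submodule.mapQ _ _ LinearMap.id (Ideal.pow_le_pow_right hnm)
  have hf : Function.Injective f := by
    rw [injective_iff_map_eq_zero]
    intro z hz
    obtain ⟨y, rfl⟩ := Submodule.Quotient.mk_surjective _ z
    have h1 : (Submodule.Quotient.mk (y : B) : B ⧸ J ^ m) = 0 := hz
    rw [Submodule.Quotient.mk_eq_zero] at h1 ⊢
    exact h1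
  have hgs : Function.Surjective g := by
    intro z
    obtain ⟨y, rfl⟩ := Submodule.Quotient.mk_surjective _ z
    exact ⟨Submodule.Quotient.mk y, rfl⟩
  have hex : Function.Exact f g := by
    intro z
    obtain ⟨y, rfl⟩ := Submodule.Quotient.mk_surjective _ z
    constructor
    · intro h
      have h1 : (Submodule.Quotient.mk y : B ⧸ J ^ n) = 0 := h
      rw [Submodule.Quotient.mk_eq_zero] at h1
      exact ⟨Submodule.Quotient.mk ⟨y, h1⟩, rfl⟩
    · rintro ⟨w, hw⟩
      obtain ⟨w, rfl⟩ := Submodule.Quotient.mk_surjective _ w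
      rw [← hw]
      show (Submodule.Quotient.mk (w : B) : B ⧸ J ^ n) = 0
      rw [Submodule.Quotient.mk_eq_zero]
      exact w.2
  exact Groth.Agent.Divis.FlatExt.flat_of_exact_left (f := f.restrictScalars A)
      (g := g.restrictScalars A) hf hex hgs

theorem flat_pow (J : Ideal B) (h0 : Module.Flat A B) (h1 : Module.Flat A (B ⧸ J)) :
    Module.Flat A ↥J := by
  let f : ↥J →ₗ[B] B := Submodule.subtype J
  let g : B →ₗ[B] (B ⧸ J) := Submodule.mkQ J
  exact Groth.Agent.Divis.FlatExt.flat_of_exact_left (f := f.restrictScalars A)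
      (g := g.restrictScalars A) (Submodule.injective_subtype J)
      (LinearMap.exact_subtype_mkQ J) (Submodule.mkQ_surjective J)

theorem flat_localized (T : Submonoid B) (N N' : Type*) [AddCommGroup N] [Module B N] [Module A N]
    [IsScalarTower A B N] [AddCommGroup N'] [Module B N'] [Module A N'] [IsScalarTower A B N']
    (g : N →ₗ[B] N') [IsLocalizedModule T g] (h : Module.Flat A N) : Module.Flat A N' := by
  rw [Module.Flat.iff_lTensor_injective']
  intro I
  rw [Groth.Agent.Flat2E.QFlat.lTensor_injective_iff T g]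
  intro z hz
  refine ⟨1, T.one_mem, ?_⟩
  rw [one_smul]
  have h2 := (injective_iff_map_eq_zero _).mp
    (Module.Flat.lTensor_preserves_injective_linearMap (M := N) I.subtype I.injective_subtype) z hz
  exact h2

theorem flat_restrictScalars (X : Type*) [AddCommGroup X] [Module B X] [Module A X]
    [IsScalarTower A B X] (h : Module.Flat A X) : Module.Flat A (RestrictScalars A B X) := by
  let e : (RestrictScalars A B X) ≃ₗ[A] X :=
    { RestrictScalars.addEquiv A B X with
      map_smul' := fun a x => by
        show RestrictScalars.addEquiv A B X (a • x) = a • RestrictScalars.addEquiv A B X x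
        rw [RestrictScalars.addEquiv_map_smul, algebraMap_smul] }
  exact Module.Flat.of_linearEquiv e

end K138.TransFlat2
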