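import Groth.Agent.CInt.K138.TransSch
import Groth.Agent.SDiv.K473.RegImmCalc
import Groth.Agent.Synt.K561.RegImmDict

/-!
# Transversally regular immersions, on stalks

* `transLoc_iff`, `isTransRegularSeq_iff`: sequences of sections over an affine open, on stalks.
* `exists_nhd`: openness.
* `TransLoc.baseChange`, `TransLoc.descend`: base change and descent for sequences of germs.
* `at_of_isPullback`: base change of transversal regularity of an immersion at a point.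
-/

set_option autoImplicit false
universe u
open CategoryTheory AlgebraicGeometry RingTheory.Sequence
open K138.TransAlg K138.TransSch

namespace K138.TransImm

variable {X S : Scheme.{u}}

theorem transLoc_iff (g : X ⟶ S) {U : X.Opens} (hU : IsAffineOpen U) {V : S.Opens}
    (hV : IsAffineOpen V) (e : U ≤ g ⁻¹ᵁ V) (rs : List Γ(X, U)) (x : X) (hx : x ∈ U) :
    TransLoc (g.stalkMap x).hom (rs.map (fun s => X.presheaf.germ U x hx s)) ↔
      @TA Γ(S, V) Γ(X, U) _ _ (g.appLE V U e).hom.toAlgebra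
      (hU.primeIdealOf ⟨x, hx⟩).asIdeal.primeCompl rs := by
  let _ : Algebra Γ(S, V) Γ(X, U) := (g.appLE V U e).hom.toAlgebra
  let _ : Algebra Γ(X, U) (X.presheaf.stalk x) := X.presheaf.algebra_section_stalk (⟨x, hx⟩ : U)
  let _ : Algebra Γ(S, V) (S.presheaf.stalk (g x)) :=
    S.presheaf.algebra_section_stalk (⟨g x, e hx⟩ : V)
  let _ : Algebra Γ(S, V) (X.presheaf.stalk x) :=
    ((algebraMap Γ(X, U) (X.presheaf.stalk x)).comp (algebraMap Γ(S, V) Γ(X, U))).toAlgebra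
  let _ : Algebra (S.presheaf.stalk (g x)) (X.presheaf.stalk x) := (g.stalkMap x).hom.toAlgebra
  have t1 : IsScalarTower Γ(S, V) Γ(X, U) (X.presheaf.stalk x) := IsScalarTower.of_algebraMap_eq' rfl
  have t2 : IsScalarTower Γ(S, V) (S.presheaf.stalk (g x)) (X.presheaf.stalk x) := by
    refine IsScalarTower.of_algebraMap_eq' ?_
    have h1 : S.presheaf.germ V (g x) (e hx) ≫ g.stalkMap x =
        g.appLE V U e ≫ X.presheaf.germ U x hx := by
      rw [Scheme.Hom.germ_stalkMap, Scheme.Hom.appLE, Category.assoc, X.presheaf.germ_res]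
    exact congrArg CommRingCat.Hom.hom h1.symm
  have hloc : IsLocalization.AtPrime (X.presheaf.stalk x) (hU.primeIdealOf ⟨x, hx⟩).asIdeal :=
    hU.isLocalization_stalk ⟨x, hx⟩
  have hloc' : IsLocalization.AtPrime (S.presheaf.stalk (g x))
      (hV.primeIdealOf ⟨g x, e hx⟩).asIdeal := hV.isLocalization_stalk ⟨g x, e hx⟩
  rw [ta_iff (X.presheaf.stalk x) (hU.primeIdealOf ⟨x, hx⟩).asIdeal.primeCompl]
  have hmap : rs.map (algebraMap Γ(X, U) (X.presheaf.stalk x)) =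
      rs.map (fun s => X.presheaf.germ U x hx s) := rfl
  rw [← hmap]
  unfold TransLoc
  rw [isWeaklyRegular_map_algebraMap_iff]
  refine and_congr_right fun _ => forall_congr' fun i => ?_
  have hI : (Ideal.ofList (rs.take i)).map (algebraMap Γ(X, U) (X.presheaf.stalk x)) =
      Ideal.ofList ((rs.map (algebraMap Γ(X, U) (X.presheaf.stalk x))).take i) := by
    rw [Ideal.map_ofList, List.map_take]
  rw [← flat_mk_comp_congr _ hI]
  have h1 : ((Ideal.Quotient.mk ((Ideal.ofList (rs.take i)).map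
      (algebraMap Γ(X, U) (X.presheaf.stalk x)))).comp (g.stalkMap x).hom).Flat ↔
      Module.Flat (S.presheaf.stalk (g x)) (X.presheaf.stalk x ⧸
        ((Ideal.ofList (rs.take i)).map (algebraMap Γ(X, U) (X.presheaf.stalk x)))) := by
    rw [← RingHom.flat_algebraMap_iff]
    exact Iff.rfl
  rw [h1]
  exact Module.flat_iff_of_isLocalization (S.presheaf.stalk (g x))
    (hV.primeIdealOf ⟨g x, e hx⟩).asIdeal.primeCompl _

/-- **Local-global.** -/
theorem isTransRegularSeq_iff (g : X ⟶ S) {U : X.Opens} (hU : IsAffineOpen U)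
    {V : S.Opens} (hV : IsAffineOpen V) (e : U ≤ g ⁻¹ᵁ V) (rs : List Γ(X, U)) :
    @RegImm.IsTransRegularSeq Γ(S, V) Γ(X, U) _ _ (g.appLE V U e).hom.toAlgebra rs ↔
      ∀ (x : X) (hx : x ∈ U), TransLoc (g.stalkMap x).hom
        (rs.map (fun s => X.presheaf.germ U x hx s)) := by
  let _ : Algebra Γ(S, V) Γ(X, U) := (g.appLE V U e).hom.toAlgebra
  rw [TransAlg.isTransRegularSeq_iff]
  constructor
  · intro h x hx
    rw [transLoc_iff g hU hV e rs x hx]
    exact h _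
  · intro h q hq
    have hx : hU.fromSpec ⟨q, hq⟩ ∈ U := by
      have := hU.range_fromSpec
      exact this.le ⟨_, rfl⟩
    have h1 : hU.primeIdealOf ⟨hU.fromSpec ⟨q, hq⟩, hx⟩ = ⟨q, hq⟩ := by
      apply hU.fromSpec.isOpenEmbedding.injective
      exact hU.fromSpec_primeIdealOf ⟨hU.fromSpec ⟨q, hq⟩, hx⟩
    have h2 := (transLoc_iff g hU hV e rs _ hx).mp (h _ hx)
    rwa [h1] at h2

theorem map_germ_res {U V : X.Opens} (h : V ≤ U) (rs : List Γ(X, U)) (x : X) (hx : x ∈ V) :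
    (rs.map (X.presheaf.map (homOfLE h).op).hom).map (fun s => X.presheaf.germ V x hx s) =
      rs.map (fun s => X.presheaf.germ U x (h hx) s) := by
  rw [List.map_map]
  refine List.map_congr_left fun s _ => ?_
  exact X.presheaf.germ_res_apply (homOfLE h) x hx s

/-- **Openness** of transversal regularity. -/
theorem exists_nhd (g : X ⟶ S) [LocallyOfFinitePresentation g] {U : X.Opens} (rs : List Γ(X, U))
    (x : X) (hx : x ∈ U) (h : TransLoc (g.stalkMap x).hom (rs.map (fun s => X.presheaf.germ U x hx s))) :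
    ∃ W : X.Opens, x ∈ W ∧ ∃ hW : W ≤ U, ∀ (w : X) (hw : w ∈ W),
      TransLoc (g.stalkMap w).hom (rs.map (fun s => X.presheaf.germ U w (hW hw) s)) := by
  obtain ⟨V, hV, hxV, -⟩ := exists_isAffineOpen_mem_and_subset (x := g x) (U := ⊤) trivial
  obtain ⟨U', hU', hxU', hUV⟩ := exists_isAffineOpen_mem_and_subset (x := x) (U := U ⊓ g ⁻¹ᵁ V) ⟨hx, hxV⟩
  have e1 : U' ≤ U := fun y hy => (hUV hy).1
  have e2 : U' ≤ g ⁻¹ᵁ V := fun y hy => (hUV hy).2
  let _ : Algebra Γ(S, V) Γ(X, U') := (g.appLE V U' e2).hom.toAlgebra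
  have hfp : Algebra.FinitePresentation Γ(S, V) Γ(X, U') :=
    g.finitePresentation_appLE hV hU' e2
  rw [← map_germ_res e1 rs x hxU', transLoc_iff g hU' hV e2 _ x hxU'] at h
  obtain ⟨f, hf, H⟩ := TransAlg.exists_notMem _ _ h
  refine ⟨X.basicOpen f, ?_, (X.basicOpen_le f).trans e1, ?_⟩
  · rw [X.mem_basicOpen f x hxU']
    let := X.presheaf.algebra_section_stalk (⟨x, hxU'⟩ : U')
    have hloc : IsLocalization.AtPrime (X.presheaf.stalk x) (hU'.primeIdealOf ⟨x, hxU'⟩).asIdeal :=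
      hU'.isLocalization_stalk ⟨x, hxU'⟩
    exact (IsLocalization.AtPrime.isUnit_to_map_iff (X.presheaf.stalk x)
      (hU'.primeIdealOf ⟨x, hxU'⟩).asIdeal f).mpr hf
  · intro w hw
    have hw' : w ∈ U' := X.basicOpen_le f hw
    rw [X.mem_basicOpen f w hw'] at hw
    let := X.presheaf.algebra_section_stalk (⟨w, hw'⟩ : U')
    have hloc : IsLocalization.AtPrime (X.presheaf.stalk w) (hU'.primeIdealOf ⟨w, hw'⟩).asIdeal :=
      hU'.isLocalization_stalk ⟨w, hw'⟩
    rw [← map_germ_res e1 rs w hw', transLoc_iff g hU' hV e2 _ w hw']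
    refine H _ ?_
    exact (IsLocalization.AtPrime.isUnit_to_map_iff (X.presheaf.stalk w)
      (hU'.primeIdealOf ⟨w, hw'⟩).asIdeal f).mp hw

/-- A finite list of germs comes from sections. -/
theorem exists_list_germ (x : X) (l : List (X.presheaf.stalk x)) :
    ∃ (U : X.Opens) (hx : x ∈ U) (rs : List Γ(X, U)),
      rs.map (fun s => X.presheaf.germ U x hx s) = l := by
  induction l with
  | nil => exact ⟨⊤, trivial, [], rfl⟩
  | cons a l ih =>
    obtain ⟨U, hx, rs, rfl⟩ := ih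
    obtain ⟨W, hxW, s, rfl⟩ := X.presheaf.exists_germ_eq a
    refine ⟨U ⊓ W, ⟨hx, hxW⟩, (X.presheaf.map (homOfLE (inf_le_right : U ⊓ W ≤ W)).op).hom s ::
      rs.map (X.presheaf.map (homOfLE (inf_le_left : U ⊓ W ≤ U)).op).hom, ?_⟩
    rw [List.map_cons, map_germ_res]
    congr 1
    exact X.presheaf.germ_res_apply (homOfLE inf_le_right) x _ s

section BC

variable {X' S' : Scheme.{u}} {g : X ⟶ S} {f : S' ⟶ S} {f' : X' ⟶ X} {g' : X' ⟶ S'}

/-- Affine charts of a cartesian square around a point, inside a given open. -/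
theorem exists_chart (H : IsPullback f' g' g f) (x' : X') (W : X.Opens) (hW : f' x' ∈ W) :
    ∃ (V : S.Opens) (U : X.Opens) (V' : S'.Opens) (U' : X'.Opens) (_ : IsAffineOpen V)
      (_ : IsAffineOpen U) (_ : IsAffineOpen V') (_ : IsAffineOpen U')
      (e : U ≤ g ⁻¹ᵁ V) (e₁ : V' ≤ f ⁻¹ᵁ V) (e₂ : U' ≤ f' ⁻¹ᵁ U) (e₃ : U' ≤ g' ⁻¹ᵁ V'),
      U ≤ W ∧ x' ∈ U' ∧ IsPushout (g.appLE V U e) (f.appLE V V' e₁) (f'.appLE U U' e₂)
        (g'.appLE V' U' e₃) := by
  obtain ⟨V, hV, hxV, -⟩ := exists_isAffineOpen_mem_and_subset (x := g (f' x')) (U := ⊤) trivial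
  obtain ⟨U, hU, hxU, hUV⟩ := exists_isAffineOpen_mem_and_subset (x := f' x') (U := W ⊓ g ⁻¹ᵁ V)
    ⟨hW, hxV⟩
  have hUW : U ≤ W := fun y hy => (hUV hy).1
  replace hUV : U ≤ g ⁻¹ᵁ V := fun y hy => (hUV hy).2
  have hw : g (f' x') = f (g' x') := by
    rw [← Scheme.Hom.comp_apply, H.w, Scheme.Hom.comp_apply]
  have hxV' : g' x' ∈ f ⁻¹ᵁ V := by
    show f (g' x') ∈ V
    rw [← hw]
    exact hxV
  obtain ⟨V', hV', hxV'', hVV⟩ := exists_isAffineOpen_mem_and_subset (x := g' x')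
    (U := f ⁻¹ᵁ V) hxV'
  have h1 := isIso_pushoutSection_of_isAffineOpen H hVV hUV (UY := f' ⁻¹ᵁ U ⊓ g' ⁻¹ᵁ V') rfl
    hV hV' hU
  rw [isIso_pushoutSection_iff] at h1
  have hU' : IsAffineOpen (f' ⁻¹ᵁ U ⊓ g' ⁻¹ᵁ V') := by
    have : IsAffine _ := hV
    have : IsAffine _ := hU
    have : IsAffine _ := hV'
    exact .of_isIso (Scheme.Hom.isPullback_resLE H hVV hUV rfl).isoPullback.hom
  exact ⟨V, U, V', _, hV, hU, hV', hU', hUV, hVV, inf_le_left, inf_le_right, hUW, ⟨hxU, hxV''⟩, h1⟩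

/-- germs and appLE -/
theorem map_germ_appLE {U : X.Opens} {U' : X'.Opens} (e : U' ≤ f' ⁻¹ᵁ U) (rs : List Γ(X, U)) (x' : X')
    (hx' : x' ∈ U') :
    (rs.map (fun s => X.presheaf.germ U (f' x') (e hx') s)).map (f'.stalkMap x').hom =
      (rs.map (fun s => (f'.appLE U U' e).hom s)).map (fun s => X'.presheaf.germ U' x' hx' s) := by
  rw [List.map_map, List.map_map]
  refine List.map_congr_left fun s _ => ?_
  have h1 : X.presheaf.germ U (f' x') (e hx') ≫ f'.stalkMap x' =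
      f'.appLE U U' e ≫ X'.presheaf.germ U' x' hx' := by
    rw [Scheme.Hom.germ_stalkMap, Scheme.Hom.appLE, Category.assoc, X'.presheaf.germ_res]
  exact congrArg (fun φ => φ.hom s) h1

/-- Transversal regularity of germs is stable under base change. -/
theorem _root_.K138.TransSch.TransLoc.baseChange (H : IsPullback f' g' g f) {x' : X'}
    {l : List (X.presheaf.stalk (f' x'))} (h : TransLoc (g.stalkMap (f' x')).hom l) :
    TransLoc (g'.stalkMap x').hom (l.map (f'.stalkMap x').hom) := by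
  obtain ⟨W, hxW, rs, rfl⟩ := exists_list_germ _ l
  obtain ⟨V, U, V', U', hV, hU, hV', hU', e, e₁, e₂, e₃, hUW, hx', hP⟩ := exists_chart H x' W hxW
  have hxU : f' x' ∈ U := e₂ hx'
  rw [← map_germ_res hUW rs _ hxU] at h ⊢
  rw [map_germ_appLE e₂ _ x' hx', transLoc_iff g' hU' hV' e₃ _ x' hx']
  rw [transLoc_iff g hU hV e _ (f' x') (e₂ hx')] at h
  let _ : Algebra Γ(S, V) Γ(X, U) := (g.appLE V U e).hom.toAlgebra
  let _ : Algebra Γ(S, V) Γ(S', V') := (f.appLE V V' e₁).hom.toAlgebra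
  let _ : Algebra Γ(X, U) Γ(X', U') := (f'.appLE U U' e₂).hom.toAlgebra
  let _ : Algebra Γ(S', V') Γ(X', U') := (g'.appLE V' U' e₃).hom.toAlgebra
  let _ : Algebra Γ(S, V) Γ(X', U') :=
    ((f'.appLE U U' e₂).hom.comp (g.appLE V U e).hom).toAlgebra
  have t1 : IsScalarTower Γ(S, V) Γ(X, U) Γ(X', U') := IsScalarTower.of_algebraMap_eq' rfl
  have t2 : IsScalarTower Γ(S, V) Γ(S', V') Γ(X', U') := IsScalarTower.of_algebraMap_eq' <| by
    exact congrArg CommRingCat.Hom.hom hP.w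
  have hpush : Algebra.IsPushout Γ(S, V) Γ(S', V') Γ(X, U) Γ(X', U') :=
    CommRingCat.isPushout_iff_isPushout.mp hP.flip
  exact TA.baseChange (A₁ := Γ(S, V)) (A := Γ(S', V')) (B₁ := Γ(X, U)) (B := Γ(X', U')) (by
    intro t ht ht'
    refine ht ?_
    have h1 := IsAffineOpen.comap_primeIdealOf_appLE (f := f') U hU U' hU' e₂ hx'
    have h2 := congrArg PrimeSpectrum.asIdeal h1
    rw [← h2]
    exact ht') h

/-- Descent of transversal regularity of germs. -/
theorem _root_.K138.TransSch.TransLoc.descend (H : IsPullback f' g' g f) [LocallyOfFinitePresentation g]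
    {x' : X'} {l : List (X.presheaf.stalk (f' x'))} (hflat : (g.stalkMap (f' x')).hom.Flat)
    (h : TransLoc (g'.stalkMap x').hom (l.map (f'.stalkMap x').hom)) :
    TransLoc (g.stalkMap (f' x')).hom l := by
  obtain ⟨W, hxW, rs, rfl⟩ := exists_list_germ _ l
  obtain ⟨V, U, V', U', hV, hU, hV', hU', e, e₁, e₂, e₃, hUW, hx', hP⟩ := exists_chart H x' W hxW
  have hxU : f' x' ∈ U := e₂ hx'
  rw [← map_germ_res hUW rs _ hxU] at h ⊢
  rw [map_germ_appLE e₂ _ x' hx', transLoc_iff g' hU' hV' e₃ _ x' hx'] at h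
  rw [transLoc_iff g hU hV e _ (f' x') (e₂ hx')]
  have hflat2 : TransLoc (g.stalkMap (f' x')).hom
      (([] : List Γ(X, U)).map (fun s => X.presheaf.germ U (f' x') (e₂ hx') s)) :=
    (transLoc_nil_iff _).mpr hflat
  rw [transLoc_iff g hU hV e _ (f' x') (e₂ hx')] at hflat2
  let _ : Algebra Γ(S, V) Γ(X, U) := (g.appLE V U e).hom.toAlgebra
  let _ : Algebra Γ(S, V) Γ(S', V') := (f.appLE V V' e₁).hom.toAlgebra
  let _ : Algebra Γ(X, U) Γ(X', U') := (f'.appLE U U' e₂).hom.toAlgebra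
  let _ : Algebra Γ(S', V') Γ(X', U') := (g'.appLE V' U' e₃).hom.toAlgebra
  let _ : Algebra Γ(S, V) Γ(X', U') :=
    ((f'.appLE U U' e₂).hom.comp (g.appLE V U e).hom).toAlgebra
  have t1 : IsScalarTower Γ(S, V) Γ(X, U) Γ(X', U') := IsScalarTower.of_algebraMap_eq' rfl
  have t2 : IsScalarTower Γ(S, V) Γ(S', V') Γ(X', U') := IsScalarTower.of_algebraMap_eq' <| by
    exact congrArg CommRingCat.Hom.hom hP.w
  have hpush : Algebra.IsPushout Γ(S, V) Γ(S', V') Γ(X, U) Γ(X', U') :=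
    CommRingCat.isPushout_iff_isPushout.mp hP.flip
  have hfp : Algebra.FinitePresentation Γ(S, V) Γ(X, U) :=
    g.finitePresentation_appLE hV hU e
  have h1 := IsAffineOpen.comap_primeIdealOf_appLE (f := f') U hU U' hU' e₂ hx'
  rw [← h1]
  rw [← h1] at hflat2
  exact TransAlg.descend (A₁ := Γ(S, V)) (A := Γ(S', V')) (B₁ := Γ(X, U)) (B := Γ(X', U'))
    _ _ hflat2.flat h

end BC

section Imm

open K473.RegImmCalc

variable {X' S' Y Y' : Scheme.{u}} {g : X ⟶ S} {f : S' ⟶ S} {f' : X' ⟶ X} {g' : X' ⟶ S'}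
  {i : Y ⟶ X} {i' : Y' ⟶ X'} {p : Y' ⟶ Y}

/-- **Base change** of transversal regularity of an immersion at a point. -/
theorem at_of_isPullback (H : IsPullback f' g' g f) (H' : IsPullback p i' i f') {z' : Y'}
    (h : RegImm.IsTransRegularImmersionAt g i (p z')) : RegImm.IsTransRegularImmersionAt g' i' z' := by
  obtain ⟨U, V, e, hz, hcl, rs, hrs, hk⟩ := h
  have hw : f' (i' z') = i (p z') := by
    rw [← Scheme.Hom.comp_apply, ← Scheme.Hom.comp_apply, H'.w]
  have hU : i' z' ∈ f' ⁻¹ᵁ U.1 := by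
    show f' (i' z') ∈ U.1
    rw [hw]
    exact hz
  obtain ⟨V', hV', hxV', -⟩ := exists_isAffineOpen_mem_and_subset (x := g' (i' z')) (U := ⊤) trivial
  obtain ⟨U', hU', hxU', hUV⟩ := exists_isAffineOpen_mem_and_subset (x := i' z')
    (U := f' ⁻¹ᵁ U.1 ⊓ g' ⁻¹ᵁ V') ⟨hU, hxV'⟩
  have e1 : U' ≤ f' ⁻¹ᵁ U.1 := fun y hy => (hUV hy).1
  have e2 : U' ≤ g' ⁻¹ᵁ V' := fun y hy => (hUV hy).2
  obtain ⟨h1, h2⟩ := ker_app_of_isPullback H' U.2 hU' e1 hcl
  refine ⟨⟨U', hU'⟩, ⟨V', hV'⟩, e2, hxU', h1, rs.map (f'.appLE U.1 U' e1).hom, ?_, ?_⟩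
  · rw [isTransRegularSeq_iff g' hU' hV' e2]
    intro x' hx'
    rw [isTransRegularSeq_iff g U.2 V.2 e] at hrs
    have := (hrs (f' x') (e1 hx')).baseChange H
    rwa [map_germ_appLE e1 _ x' hx'] at this
  · rw [h2, hk, Ideal.map_ofList]

/-- Base change along a composite, for the base change of an immersion `j₀`. -/
theorem at_snd_comp (H : IsPullback f' g' g f) {X₀ Y₀ : Scheme.{u}} (j₀ : Y₀ ⟶ X₀) {q : X ⟶ X₀}
    {r : X' ⟶ X₀} (hr : f' ≫ q = r)
    (h : ∀ y, RegImm.IsTransRegularImmersionAt g (Limits.pullback.snd j₀ q) y) (y') :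
    RegImm.IsTransRegularImmersionAt g' (Limits.pullback.snd j₀ r) y' := by
  subst hr
  have h1 : IsPullback (Limits.pullback.lift (Limits.pullback.fst j₀ (f' ≫ q))
      (Limits.pullback.snd j₀ (f' ≫ q) ≫ f')
      (by rw [Category.assoc, Limits.pullback.condition]))
      (Limits.pullback.snd j₀ (f' ≫ q)) (Limits.pullback.snd j₀ q) f' :=
    IsPullback.of_right (h₁₂ := Limits.pullback.fst j₀ q) (h₂₂ := q) (v₁₃ := j₀)
      (by rw [Limits.pullback.lift_fst]; exact (IsPullback.of_hasPullback j₀ (f' ≫ q)))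
      (Limits.pullback.lift_snd _ _ _) (IsPullback.of_hasPullback j₀ q)
  exact at_of_isPullback H h1 (h _)

/-- Transversal regularity at a point is an open condition. -/
theorem isOpen_at (g : X ⟶ S) (i : Y ⟶ X) : IsOpen {z | RegImm.IsTransRegularImmersionAt g i z} := by
  rw [isOpen_iff_forall_mem_open]
  rintro z ⟨U, V, e, hz, hcl, rs, hrs, hk⟩
  exact ⟨i ⁻¹ᵁ U.1, fun z' hz' => ⟨U, V, e, hz', hcl, rs, hrs, hk⟩, (i ⁻¹ᵁ U.1).2, hz⟩

/-- From generators of the ideal that are transversally regular at the point. -/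
theorem at_of_gen (g : X ⟶ S) [LocallyOfFinitePresentation g] (i : Y ⟶ X) (z : Y) {W : X.Opens}
    (hW : IsAffineOpen W) (hz : i z ∈ W) (hcl : IsClosedImmersion (i ∣_ W)) (rs : List Γ(X, W))
    (hk : RingHom.ker (i.app W).hom = Ideal.ofList rs)
    (h : TransLoc (g.stalkMap (i z)).hom (rs.map (fun s => X.presheaf.germ W (i z) hz s))) :
    RegImm.IsTransRegularImmersionAt g i z := by
  obtain ⟨W', hzW', hW'W, hW'⟩ := exists_nhd g rs _ hz h
  obtain ⟨V, hV, hzV, -⟩ := exists_isAffineOpen_mem_and_subset (x := g (i z)) (U := ⊤) trivial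
  obtain ⟨U, hU, hzU, hUV⟩ := exists_isAffineOpen_mem_and_subset (x := i z)
    (U := W' ⊓ g ⁻¹ᵁ V) ⟨hzW', hzV⟩
  have e1 : U ≤ W' := fun y hy => (hUV hy).1
  have e2 : U ≤ g ⁻¹ᵁ V := fun y hy => (hUV hy).2
  have e3 : U ≤ W := e1.trans hW'W
  obtain ⟨h1, h2⟩ := ker_app_of_isPullback (i := i) (i' := i) (g := 𝟙 X) (g' := 𝟙 Y)
    (IsPullback.of_horiz_isIso ⟨by simp⟩) hW hU e3 hcl
  have e4 : (𝟙 X : X ⟶ X).appLE W U e3 = X.presheaf.map (homOfLE e3).op := by
    rw [Scheme.Hom.appLE]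
    exact Category.id_comp _
  refine ⟨⟨U, hU⟩, ⟨V, hV⟩, e2, hzU, h1, rs.map (X.presheaf.map (homOfLE e3).op).hom, ?_, ?_⟩
  · rw [isTransRegularSeq_iff g hU hV e2]
    intro x hx
    rw [map_germ_res e3]
    exact hW' x (e1 hx)
  · rw [h2, hk, Ideal.map_ofList, e4]

end Imm

end K138.TransImm
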